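import Mathlib
import Cfsg.Agent.Lib.Solvable.Hall
import Cfsg.Agent.Lib.Solvable.InvariantHall
import Cfsg.Agent.Lib.Solvable.Frattini
import Cfsg.Agent.Lib.Invol.Dihedral
import Cfsg.Agent.Lib.NilpPerm.Bound

/-!
Groups all of whose `p'`-subgroups are nilpotent: inheritance and the basic commutation facts.
-/

set_option autoImplicit false
set_option linter.unusedSectionVars false
set_option linter.style.haveILetI false

open Subgroup

namespace CfsgLib.PPrimeNilp

universe u

/-- Every subgroup of order prime to `p` is nilpotent. -/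
def Hyp (p : ℕ) (G : Type*) [Group G] : Prop :=
  ∀ H : Subgroup G, (Nat.card H).Coprime p → Group.IsNilpotent H

theorem Hyp.subgroup {p : ℕ} {G : Type*} [Group G] (h : Hyp p G) (K : Subgroup G) :
    Hyp p K := by
  intro H hH
  have e := H.equivMapOfInjective K.subtype K.subtype_injective
  haveI : Group.IsNilpotent (H.map K.subtype) :=
    h _ (by rwa [← Nat.card_congr e.toEquiv])
  exact Group.nilpotent_of_mulEquiv e.symm

/-- The hypothesis passes to the quotients of a solvable group. -/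
theorem Hyp.of_surjective {p : ℕ} (hp : p.Prime) {X Y : Type*} [Group X] [Finite X] [Group Y]
    [Group.IsSolvable X] (h : Hyp p X) (f : X →* Y) (hf : Function.Surjective f) : Hyp p Y := by
  haveI : Finite Y := Finite.of_surjective f hf
  intro H hH
  set K := H.comap f
  haveI : Group.IsSolvable K :=
    Group.isSolvable_of_isSolvable_injective K.subtype_injective
  obtain ⟨D, hD⟩ := CfsgLib.Solvable.exists_isPiHall (G := K) {q | q ≠ p}
  have hDc : (Nat.card D).Coprime p := (hp.coprime_iff_not_dvd.2 fun hd => hD.1 p hp hd rfl).symm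
  haveI : Group.IsNilpotent D := h.subgroup K D hDc
  let g : K →* H := f.subgroupComap H
  have hg : Function.Surjective g := fun y => by
    obtain ⟨x, hx⟩ := hf y
    exact ⟨⟨x, by rw [mem_comap, hx]; exact y.2⟩, Subtype.ext hx⟩
  have hDtop : D.map g = ⊤ := by
    rw [← index_eq_one]
    refine Nat.eq_one_of_dvd_coprimes (k := (D.map g).index) (a := Nat.card H) (b := D.index) ?_
      (index_dvd_card _) (index_map_dvd D hg)
    exact Nat.coprime_of_dvd fun q hq h1 h2 => hD.2 q hq (fun hqp => hp.ne_one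
      (Nat.eq_one_of_dvd_coprimes hH (hqp ▸ h1) dvd_rfl)) h2
  refine Group.nilpotent_of_surjective (g.comp D.subtype) fun y => ?_
  have hy : y ∈ D.map g := hDtop ▸ mem_top y
  obtain ⟨x, hx, rfl⟩ := hy
  exact ⟨⟨x, hx⟩, rfl⟩

variable {G : Type*} [Group G] [Finite G] {p : ℕ} (h : Hyp p G)
include h

/-- A `p'`-subgroup normalising a `p'`-subgroup of coprime order centralises it. -/
theorem Hyp.commute_of_normalizes {U K : Subgroup G} (hKU : K ≤ normalizer (U : Set G))
    (hcop : (Nat.card U).Coprime (Nat.card K)) (hU : (Nat.card U).Coprime p)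
    (hK : (Nat.card K).Coprime p) {x y : G} (hx : x ∈ U) (hy : y ∈ K) : Commute x y := by
  have hcard : Nat.card ↥(U ⊔ K : Subgroup G) ∣ Nat.card U * Nat.card K := by
    have h1 := relIndex_mul_relIndex ⊥ K (U ⊔ K) bot_le le_sup_right
    rw [relIndex_bot_left, relIndex_bot_left] at h1
    rw [← h1, mul_comm (Nat.card U)]
    exact mul_dvd_mul_left _ (CfsgLib.Solvable.relIndex_sup_dvd_card hKU)
  haveI : Group.IsNilpotent ↥(U ⊔ K : Subgroup G) :=
    h _ ((hU.mul_left hK).coprime_dvd_left hcard)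
  have := CfsgLib.NilpPerm.commute_of_coprime_order (G := ↥(U ⊔ K : Subgroup G))
    (a := ⟨x, mem_sup_left hx⟩) (b := ⟨y, mem_sup_right hy⟩) (by
      rw [orderOf_mk, orderOf_mk]
      exact (hcop.coprime_dvd_left (U.orderOf_dvd_natCard hx)).coprime_dvd_right
        (K.orderOf_dvd_natCard hy))
  exact congrArg Subtype.val this

/-- An element of odd order prime to `p` centralises every `2`-subgroup it normalises. -/
theorem Hyp.commute_of_odd {U : Subgroup G} (hU : IsPGroup 2 U) (hp : p.Prime) (hp2 : p ≠ 2)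
    {x : G} (hxU : x ∈ normalizer (U : Set G)) (hxo : Odd (orderOf x))
    (hxp : (orderOf x).Coprime p) {u : G} (hu : u ∈ U) : Commute u x := by
  haveI : Fact (Nat.Prime 2) := ⟨Nat.prime_two⟩
  obtain ⟨k, hk⟩ := hU.exists_card_eq
  refine h.commute_of_normalizes (K := zpowers x) (zpowers_le.2 hxU) ?_ ?_ ?_ hu (mem_zpowers x)
  · rw [hk, Nat.card_zpowers]; exact (Nat.coprime_two_left.2 hxo).pow_left k
  · rw [hk]; exact ((Nat.coprime_primes Nat.prime_two hp).2 hp2.symm).pow_left k
  · rwa [Nat.card_zpowers]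

/-- An involution inverts only `p`-elements of odd order. -/
theorem Hyp.eq_one_of_inverted (hp : p.Prime) (hp2 : p ≠ 2) {t x : G} (ht : orderOf t = 2)
    (hxo : Odd (orderOf x)) (hxp : (orderOf x).Coprime p) (hinv : t * x * t⁻¹ = x⁻¹) :
    x = 1 := by
  have hn : zpowers t ≤ normalizer (zpowers x : Set G) := by
    refine le_normalizer_iff.2 ?_
    rintro _ ⟨i, rfl⟩ _ ⟨j, rfl⟩
    have key : ∀ y ∈ zpowers x, t * y * t⁻¹ ∈ zpowers x := by
      rintro _ ⟨k, rfl⟩
      refine ⟨-k, ?_⟩
      simp only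
      rw [CfsgLib.Invol.conj_zpow_of_inverts hinv]
    rcases Int.even_or_odd' i with ⟨m, rfl | rfl⟩
    · simp only [zpow_mul, zpow_two, CfsgLib.Invol.mul_self_eq_one ht, one_zpow, one_mul, inv_one,
        mul_one]
      exact ⟨j, rfl⟩
    · simp only [zpow_add, zpow_mul, zpow_two, CfsgLib.Invol.mul_self_eq_one ht, one_zpow, one_mul,
        zpow_one]
      exact key _ ⟨j, rfl⟩
  have hc := h.commute_of_normalizes hn
    (by rw [Nat.card_zpowers, Nat.card_zpowers, ht]; exact Nat.coprime_two_right.2 hxo)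
    (by rwa [Nat.card_zpowers])
    (by rw [Nat.card_zpowers, ht]; exact (Nat.coprime_primes Nat.prime_two hp).2 hp2.symm)
    (mem_zpowers x) (mem_zpowers t)
  rw [← hc.eq, mul_inv_cancel_right] at hinv
  have h2 : x ^ 2 = 1 := by rw [pow_two]; nth_rewrite 2 [hinv]; exact mul_inv_cancel x
  exact orderOf_eq_one_iff.1 (Nat.eq_one_of_dvd_coprimes (Nat.coprime_two_right.2 hxo) dvd_rfl
    (orderOf_dvd_of_pow_eq_one h2))

/-- An element of odd order inverted by an involution is a `p`-element. -/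
theorem Hyp.orderOf_inverted (hp : p.Prime) (hp2 : p ≠ 2) {t x : G} (ht : orderOf t = 2)
    (hxo : Odd (orderOf x)) (hinv : t * x * t⁻¹ = x⁻¹) : ∃ k, orderOf x = p ^ k := by
  obtain ⟨k, m, hm, hkm⟩ :=
    Nat.exists_eq_pow_mul_and_not_dvd (orderOf_pos x).ne' p hp.ne_one
  refine ⟨k, ?_⟩
  have hy : orderOf (x ^ p ^ k) = m := by
    rw [orderOf_pow_of_dvd (pow_ne_zero _ hp.ne_zero) ⟨m, hkm⟩, hkm,
      Nat.mul_div_cancel_left _ (pow_pos hp.pos k)]
  have h1 : x ^ p ^ k = 1 := h.eq_one_of_inverted hp hp2 ht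
    (by rw [hy]; exact (Nat.odd_mul.1 (hkm ▸ hxo)).2)
    (by rw [hy]; exact (hp.coprime_iff_not_dvd.2 hm).symm)
    (by rw [← conj_pow, hinv, inv_pow])
  rw [h1, orderOf_one] at hy
  rw [hkm, ← hy, mul_one]

end CfsgLib.PPrimeNilp
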