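import Mathlib

/-!
An element of prime order at least five inverted by an involution on an elementary abelian group of
order at most sixteen.
-/

set_option autoImplicit false
set_option linter.style.haveILetI false
set_option linter.unusedSectionVars false

open Subgroup

namespace CfsgLib.PPrimeNilp

variable {V : Type*} [CommGroup V] [Finite V] {p : ℕ} [hp : Fact p.Prime]

/-- The subgroup of fixed points of an automorphism. -/
def fixSub (y : MulAut V) : Subgroup V :=
  y.toMonoidHom.eqLocus (MonoidHom.id V)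

theorem mem_fixSub {y : MulAut V} {v : V} : v ∈ fixSub y ↔ y v = v := Iff.rfl

theorem fixSub_pow {y : MulAut V} {v : V} (hv : y v = v) (k : ℕ) : (y ^ k) v = v := by
  induction k with
  | zero => simp
  | succ n ih => rw [pow_succ, MulAut.mul_apply, hv, ih]

theorem fix_of_pow_fix {y : MulAut V} (hy : orderOf y = p) {v : V} {k : ℕ} (hk : ¬ p ∣ k)
    (hv : (y ^ k) v = v) : y v = v := by
  obtain ⟨j, hj⟩ := exists_pow_eq_self_of_coprime
    (show k.Coprime (orderOf y) by rw [hy]; exact (hp.out.coprime_iff_not_dvd.2 hk).symm)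
  conv_lhs => rw [← hj]
  exact fixSub_pow hv j

theorem fix_of_zpow_fix {y : MulAut V} (hy : orderOf y = p) {v : V} {k : ℤ} (hk : ¬ (p : ℤ) ∣ k)
    (hv : (y ^ k) v = v) : y v = v := by
  obtain ⟨n, rfl | rfl⟩ := Int.eq_nat_or_neg k
  · exact fix_of_pow_fix hy (fun h => hk (Int.natCast_dvd_natCast.2 h)) (by rwa [zpow_natCast] at hv)
  · refine fix_of_pow_fix hy (k := n) (fun h => hk (dvd_neg.2 (Int.natCast_dvd_natCast.2 h))) ?_
    rw [zpow_neg, zpow_natCast] at hv
    calc (y ^ n) v = (y ^ n) ((y ^ n)⁻¹ v) := by rw [hv]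
      _ = v := by rw [← MulAut.mul_apply, mul_inv_cancel, MulAut.one_apply]

theorem fixSub_modEq {y : MulAut V} (hy : orderOf y = p) :
    Nat.card V ≡ Nat.card (fixSub y) [MOD p] := by
  have hP : IsPGroup p (zpowers y) :=
    IsPGroup.of_card (n := 1) (by rw [Nat.card_zpowers, hy, pow_one])
  refine (hP.card_modEq_card_fixedPoints V).trans (congrArg (· % p) ?_)
  refine Nat.card_congr (Equiv.subtypeEquivRight fun v => ?_)
  constructor
  · intro h
    exact h ⟨y, mem_zpowers y⟩
  · rintro hv ⟨g, hg⟩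
    obtain ⟨k, rfl⟩ := (mem_powers_iff_mem_zpowers.2 hg)
    exact fixSub_pow hv k

/-- Two commuting points of orbits: an element inverted by `e` moves a fixed point of `e` away from
the fixed points of `e`. -/
theorem fix_of_fixed_zpow {y e : MulAut V} (hy : orderOf y = p) (hp2 : p ≠ 2)
    (hinv : e * y * e⁻¹ = y⁻¹) {v : V} {k : ℤ} (hk : ¬ (p : ℤ) ∣ k) (hev : e v = v)
    (hew : e ((y ^ k) v) = (y ^ k) v) : y v = v := by
  have he : e⁻¹ v = v := by
    conv_lhs => rw [← hev]
    rw [← MulAut.mul_apply, inv_mul_cancel, MulAut.one_apply]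
  have h1 : (e * y ^ k * e⁻¹) v = (y ^ k) v := by
    rw [MulAut.mul_apply, MulAut.mul_apply, he, hew]
  rw [← conj_zpow, hinv, inv_zpow'] at h1
  refine fix_of_zpow_fix hy (k := k + k) ?_ ?_
  · rw [← two_mul]
    refine fun h => (Int.Prime.dvd_mul' hp.out h).elim (fun h2 => hp2 ?_) hk
    exact (Nat.prime_dvd_prime_iff_eq hp.out Nat.prime_two).1 (Int.natCast_dvd_natCast.1 h2)
  · rw [zpow_add, MulAut.mul_apply, ← h1, ← MulAut.mul_apply, ← zpow_add, add_neg_cancel, zpow_zero,
      MulAut.one_apply]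

/-- The small dihedral lemma. -/
theorem small_dihedral (hexp : ∀ v : V, v * v = 1) (h16 : Nat.card V ≤ 16) (h5 : 5 ≤ p)
    {y e : MulAut V} (hy : orderOf y = p) (he : e * e = 1) (hinv : e * y * e⁻¹ = y⁻¹) :
    p = 5 ∧ Nat.card V = 16 ∧ Nat.card (fixSub e) = 4 := by
  set C := fixSub y with hC
  let δ : V →* V :=
    MonoidHom.mk' (fun v => y v * v⁻¹) fun a b => by rw [map_mul, mul_inv]; exact mul_mul_mul_comm _ _ _ _
  set W := δ.range with hW
  have hker : δ.ker = C := by
    ext v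
    rw [MonoidHom.mem_ker, mem_fixSub]
    exact ⟨fun h => mul_inv_eq_one.1 h, fun h => mul_inv_eq_one.2 h⟩
  have hcard : Nat.card V = Nat.card W * Nat.card C := by
    rw [← hker, card_eq_card_quotient_mul_card_subgroup δ.ker,
      Nat.card_congr (QuotientGroup.quotientKerEquivRange δ).toEquiv]
  have hWC : ∀ w ∈ W, y w = w → w = 1 := by
    rintro _ ⟨u, rfl⟩ hw
    set w := δ u with hwdef
    have hu : y u = u * w := by
      show y u = u * (y u * u⁻¹)
      rw [mul_comm (y u), mul_inv_cancel_left]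
    have hi : ∀ i : ℕ, (y ^ i) u = u * w ^ i := by
      intro i
      induction i with
      | zero => simp
      | succ n ih =>
        rw [pow_succ', MulAut.mul_apply, ih, map_mul, map_pow, hw, hu, pow_succ, mul_assoc,
          ← pow_succ', pow_succ]
    have hpw : w ^ p = 1 := by
      have := hi p
      rw [← hy, pow_orderOf_eq_one, MulAut.one_apply, hy] at this
      exact mul_eq_left.1 this.symm
    have h2 : w ^ 2 = 1 := by rw [pow_two]; exact hexp w
    have h21 : p.Coprime 2 := (Nat.coprime_primes hp.out Nat.prime_two).2 (by omega)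
    exact orderOf_eq_one_iff.1 (Nat.eq_one_of_dvd_coprimes h21 (orderOf_dvd_of_pow_eq_one hpw)
      (orderOf_dvd_of_pow_eq_one h2))
  have hWy : ∀ (k : ℤ), ∀ w ∈ W, (y ^ k) w ∈ W := by
    rintro k _ ⟨u, rfl⟩
    refine ⟨(y ^ k) u, ?_⟩
    show y ((y ^ k) u) * ((y ^ k) u)⁻¹ = (y ^ k) (y u * u⁻¹)
    rw [map_mul, map_inv, ← MulAut.mul_apply _ y, ← MulAut.mul_apply _ (y ^ k),
      (Commute.self_zpow y k).eq]
  have hye : ∀ u : V, y⁻¹ (e u) = e (y u) := fun u => by
    rw [← hinv, MulAut.mul_apply, MulAut.mul_apply]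
    congr 2
    rw [← MulAut.mul_apply, inv_mul_cancel, MulAut.one_apply]
  have hWe : ∀ w ∈ W, e w ∈ W := by
    rintro _ ⟨u, rfl⟩
    refine ⟨(y⁻¹ (e u))⁻¹, ?_⟩
    show y (y⁻¹ (e u))⁻¹ * ((y⁻¹ (e u))⁻¹)⁻¹ = e (y u * u⁻¹)
    rw [map_mul, map_inv, map_inv, inv_inv, ← hye, ← MulAut.mul_apply _ y, mul_inv_cancel,
      MulAut.one_apply, mul_comm]
  set D := W ⊓ fixSub e with hD
  -- `|W| ≤ |D|²`
  have hsq : Nat.card W ≤ Nat.card D * Nat.card D := by
    let ε : W →* D := MonoidHom.mk'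
      (fun w => ⟨(w : V) * e w, mul_mem w.2 (hWe _ w.2), by
        show e ((w : V) * e w) = (w : V) * e w
        rw [map_mul, ← MulAut.mul_apply, he, MulAut.one_apply, mul_comm]⟩)
      fun a b => Subtype.ext (by
        show ((a : V) * b) * e ((a : V) * b) = ((a : V) * e a) * ((b : V) * e b)
        rw [map_mul, mul_mul_mul_comm])
    rw [card_eq_card_quotient_mul_card_subgroup ε.ker,
      Nat.card_congr (QuotientGroup.quotientKerEquivRange ε).toEquiv]
    refine Nat.mul_le_mul (card_le_card_group _) ?_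
    refine Nat.card_le_card_of_injective (fun w => (⟨((w : W) : V), w.1.2, ?_⟩ : D))
      fun a b hab => Subtype.ext (Subtype.ext (congrArg (fun d : D => (d : V)) hab))
    have h : ((w : W) : V) * e (w : W) = 1 :=
      congrArg Subtype.val (MonoidHom.mem_ker.1 w.2)
    show e ((w : W) : V) = (w : W)
    exact (mul_left_cancel (h.trans (hexp _).symm))
  -- orbits
  have horb : (p : ℕ) * (Nat.card D - 1) ≤ Nat.card W - 1 := by
    have hD1 : ∀ (H : Subgroup V), Nat.card {v : H // v ≠ 1} = Nat.card H - 1 := fun H => by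
      classical
      haveI : Fintype H := Fintype.ofFinite H
      simp [Nat.card_eq_fintype_card, Fintype.card_subtype_compl]
    rw [← hD1 D, ← hD1 W, ← Nat.card_fin p, ← Nat.card_prod]
    refine Nat.card_le_card_of_injective (fun x => (⟨⟨(y ^ ((x.1 : ℕ) : ℤ)) (x.2.1 : V),
      hWy _ _ x.2.1.2.1⟩, fun h => x.2.2 (Subtype.ext ((MulEquiv.map_eq_one_iff _).1
        (congrArg Subtype.val h)))⟩ : {v : W // v ≠ 1})) ?_
    rintro ⟨i, ⟨v, hv⟩⟩ ⟨j, ⟨v', hv'⟩⟩ hab
    have h : (y ^ ((i : ℕ) : ℤ)) (v : V) = (y ^ ((j : ℕ) : ℤ)) (v' : V) :=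
      congrArg (fun t : {v : W // v ≠ 1} => ((t : W) : V)) hab
    have h' : (y ^ (((i : ℕ) : ℤ) - (j : ℕ))) (v : V) = v' := by
      rw [sub_eq_neg_add, zpow_add, MulAut.mul_apply, h, ← MulAut.mul_apply, ← zpow_add,
        neg_add_cancel, zpow_zero, MulAut.one_apply]
    by_cases hij : i = j
    · subst hij
      simp only [sub_self, zpow_zero, MulAut.one_apply] at h'
      exact Prod.ext rfl (Subtype.ext (Subtype.ext h'))
    · exfalso
      have hk : ¬ (p : ℤ) ∣ ((i : ℕ) : ℤ) - (j : ℕ) := fun hd => hij <| Fin.ext <| by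
        obtain ⟨c, hc⟩ := hd
        have hi := i.2; have hj := j.2
        rcases lt_trichotomy c 0 with hc0 | hc0 | hc0
        · have : (p : ℤ) * c ≤ -p := by nlinarith
          omega
        · subst hc0; omega
        · have : (p : ℤ) ≤ p * c := by nlinarith
          omega
      have hfix := fix_of_fixed_zpow hy (by omega) hinv hk v.2.2 (by rw [h']; exact v'.2.2)
      exact hv (Subtype.ext (hWC _ v.2.1 hfix))
  -- `p` divides `|W| - 1`
  obtain ⟨n, hn⟩ : ∃ n, Nat.card V = 2 ^ n := by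
    haveI : Fact (Nat.Prime 2) := ⟨Nat.prime_two⟩
    exact IsPGroup.iff_card.1 (show IsPGroup 2 V from fun v => ⟨1, by rw [pow_one, pow_two, hexp]⟩)
  obtain ⟨a, ha4, ha⟩ := (Nat.dvd_prime_pow Nat.prime_two).1
    (hn ▸ Dvd.intro _ hcard.symm : Nat.card W ∣ 2 ^ n)
  obtain ⟨c, -, hc⟩ := (Nat.dvd_prime_pow Nat.prime_two).1
    (hn ▸ Dvd.intro_left _ hcard.symm : Nat.card C ∣ 2 ^ n)
  have hmod : p ∣ Nat.card W - 1 := by
    have h := fixSub_modEq hy
    rw [← hC, hcard] at h
    have hcop : p.Coprime (Nat.card C) := by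
      rw [hc]; exact ((Nat.coprime_primes hp.out Nat.prime_two).2 (by omega)).pow_right c
    have h1 : Nat.card W * Nat.card C ≡ 1 * Nat.card C [MOD p] := by rwa [one_mul]
    exact (Nat.modEq_iff_dvd' Nat.card_pos).1
      (Nat.ModEq.cancel_right_of_coprime hcop h1).symm
  have hW1 : 1 < Nat.card W := by
    by_contra hle
    have : W = ⊥ := eq_bot_of_card_le W (by omega)
    have hy1 : y = 1 := MulEquiv.ext fun v => by
      have : δ v = 1 := mem_bot.1 (this ▸ ⟨v, rfl⟩)
      exact mul_inv_eq_one.1 this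
    rw [hy1, orderOf_one] at hy
    exact hp.out.ne_one hy.symm
  have hWle : Nat.card W ≤ 16 :=
    (Nat.le_of_dvd Nat.card_pos (Dvd.intro _ hcard.symm)).trans h16
  have hale : a ≤ 4 := (Nat.pow_le_pow_iff_right (le_refl 2)).1
    ((ha ▸ hWle).trans (le_of_eq (by norm_num)))
  have hpos := Nat.card_pos (α := C)
  have hdle : Nat.card D ≤ Nat.card (fixSub e) := card_le_of_le inf_le_right
  have key : p = 5 ∧ Nat.card W = 16 ∧ Nat.card D = 4 := by
    rw [ha] at hmod hW1 hsq horb ⊢
    interval_cases a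
    · simp at hW1
    · simp at hmod; omega
    · have := Nat.le_of_dvd (by norm_num) hmod; omega
    · have hp7 : p ≤ 7 := Nat.le_of_dvd (by norm_num) hmod
      have : 3 ≤ Nat.card D := by nlinarith
      have : 5 * 2 ≤ p * (Nat.card D - 1) := Nat.mul_le_mul h5 (by omega)
      omega
    · have hp15 : p ≤ 15 := Nat.le_of_dvd (by norm_num) hmod
      have hp5 : p = 5 := by
        interval_cases p <;> first | rfl | omega | (exfalso; exact absurd hp.out (by norm_num))
      subst hp5
      have : 4 ≤ Nat.card D := by nlinarith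
      exact ⟨rfl, by norm_num, by omega⟩
  obtain ⟨h5', hW16, hD4⟩ := key
  have hC1 : Nat.card C = 1 := by nlinarith [hcard, h16, hW16, hpos]
  refine ⟨h5', by rw [hcard, hW16, hC1], ?_⟩
  have hWtop : W = ⊤ := eq_top_of_card_eq W (by rw [hcard, hC1, mul_one])
  rw [← hD4, hD, hWtop, top_inf_eq]

/-- An element of order five fixes no involution acting with four fixed points. -/
theorem not_commute_of_fix_four (h16 : Nat.card V = 16) {y e : MulAut V}
    (hy : orderOf y = 5) (hD : Nat.card (fixSub e) = 4) : ¬ Commute e y := by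
  haveI : Fact (Nat.Prime 5) := ⟨by norm_num⟩
  haveI : Fact (Nat.Prime 2) := ⟨Nat.prime_two⟩
  intro hc
  have hfix : ∀ v, y v = v → v = 1 := by
    intro v hv
    have h := fixSub_modEq hy
    obtain ⟨c, hc4, hcc⟩ := (Nat.dvd_prime_pow Nat.prime_two).1
      (show Nat.card (fixSub y) ∣ 2 ^ 4 by
        have := card_subgroup_dvd_card (fixSub y); rw [h16] at this; simpa using this)
    rw [h16, hcc] at h
    interval_cases c <;> simp [Nat.ModEq] at h
    · exact mem_bot.1 (eq_bot_of_card_eq _ hcc ▸ (mem_fixSub.2 hv : v ∈ fixSub y))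
    · exfalso
      have htop := eq_top_of_card_eq (fixSub y) (by rw [hcc, h16]; norm_num)
      have hy1 : y = 1 := MulEquiv.ext fun v => mem_fixSub.1 (htop ▸ mem_top v)
      simp [hy1] at hy
  obtain ⟨v, hv, hv1⟩ := (ne_bot_iff_exists_ne_one.1 (fun h => by
    rw [h, card_bot] at hD; omega : fixSub e ≠ ⊥)) |> fun ⟨⟨v, hv⟩, h1⟩ =>
      (⟨v, hv, fun h => h1 (Subtype.ext h)⟩ : ∃ v, v ∈ fixSub e ∧ v ≠ 1)
  let f : Fin 5 → fixSub e := fun i => ⟨(y ^ (i : ℕ)) v, by
    rw [mem_fixSub, ← MulAut.mul_apply, (hc.pow_right _).eq, MulAut.mul_apply, mem_fixSub.1 hv]⟩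
  have hinj : Function.Injective f := by
    intro i j hij
    have h : (y ^ (i : ℕ)) v = (y ^ (j : ℕ)) v := congrArg Subtype.val hij
    by_contra hne
    refine hv1 (hfix v (fix_of_zpow_fix hy (k := ((i : ℕ) : ℤ) - (j : ℕ)) ?_ ?_))
    · intro hd
      obtain ⟨c, hc'⟩ := hd
      have := i.2; have := j.2
      exact hne (Fin.ext (by omega))
    · rw [sub_eq_neg_add, zpow_add, MulAut.mul_apply, zpow_natCast, h, ← zpow_natCast,
        ← MulAut.mul_apply, ← zpow_add, neg_add_cancel, zpow_zero, MulAut.one_apply]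
  have := Nat.card_le_card_of_injective f hinj
  rw [Nat.card_fin, hD] at this
  omega

end CfsgLib.PPrimeNilp
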