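import Mathlib
import Cfsg.Agent.Lib.PPrimeNilp.Basic
import Cfsg.Agent.Lib.PPrimeNilp.SmallModule
import Cfsg.Agent.Lib.Invol.GlaubermanZStar
import Cfsg.Agent.Lib.ConjFunctor.Alperin
import Cfsg.Agent.Lib.Signalizer.Connected
import Cfsg.Agent.Lib.Signalizer.SolvableFunctor
import Cfsg.Agent.S0221

/-!
A minimal counterexample has large elementary abelian 2-subgroups around every involution.
-/

set_option autoImplicit false
set_option linter.style.haveILetI false
set_option linter.unusedSectionVars false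

open Subgroup

namespace CfsgLib.PPrimeNilp

/-- A minimal counterexample: simple, of even order, all proper subgroups solvable. -/
structure Minimal (p : ℕ) (G : Type*) [Group G] : Prop where
  prime : p.Prime
  three_lt : 3 < p
  simple : IsSimpleGroup G
  even : Even (Nat.card G)
  hyp : Hyp p G
  solv : ∀ H : Subgroup G, H ≠ ⊤ → Group.IsSolvable H
  not_solv : ¬ Group.IsSolvable G

variable {G : Type*} [Group G] [Finite G] {p : ℕ} (hM : Minimal p G)
include hM

theorem Minimal.p_ne_two : p ≠ 2 := by have := hM.three_lt; omega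

theorem Minimal.five_le : 5 ≤ p := by
  rcases Nat.lt_or_ge p 5 with h | h
  · exfalso
    have := hM.three_lt
    interval_cases p
    exact absurd hM.prime (by norm_num)
  · exact h

theorem Minimal.normalizer_ne_top {U : Subgroup G} (hU : IsPGroup 2 U) (hne : U ≠ ⊥) :
    normalizer (U : Set G) ≠ ⊤ := by
  haveI : Fact (Nat.Prime 2) := ⟨Nat.prime_two⟩
  intro h
  rcases hM.simple.eq_bot_or_eq_top_of_normal U (normalizer_eq_top_iff.1 h) with h1 | h1
  · exact hne h1
  · subst h1
    haveI : Group.IsNilpotent G := (hU.of_equiv topEquiv).isNilpotent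
    exact hM.not_solv inferInstance

theorem Minimal.center_eq_bot : center G = ⊥ := by
  rcases hM.simple.eq_bot_or_eq_top_of_normal (center G) inferInstance with h1 | h1
  · exact h1
  · exact absurd (Group.isSolvable_of_comm fun a b => mem_center_iff.1 (h1 ▸ mem_top b) a) hM.not_solv

theorem Minimal.index_ne_two (H : Subgroup G) : H.index ≠ 2 := by
  intro h
  rcases hM.simple.eq_bot_or_eq_top_of_normal H (normal_of_index_eq_two h) with h1 | h1
  · rw [h1, index_bot] at h
    haveI : Fact (Nat.Prime 2) := ⟨Nat.prime_two⟩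
    haveI := isCyclic_of_prime_card (α := G) (p := 2) h
    exact hM.not_solv (Group.isSolvable_of_comm fun a b => (IsCyclic.commGroup (α := G)).mul_comm a b)
  · rw [h1, index_top] at h
    exact absurd h (by norm_num)

theorem Minimal.centralizer_ne_top {t : G} (ht : t ≠ 1) : centralizer ({t} : Set G) ≠ ⊤ := fun h => by
  have hmem : t ∈ center G := mem_center_iff.2 fun g =>
    mem_centralizer_singleton_iff.1 (h ▸ mem_top g)
  rw [hM.center_eq_bot, mem_bot] at hmem
  exact ht hmem

theorem Minimal.exists_fused {S : Sylow 2 G} {z : G} (hz : orderOf z = 2) :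
    ∃ g : G, g * z * g⁻¹ ∈ (S : Subgroup G) ∧ g * z * g⁻¹ ≠ z := by
  by_contra hno
  push Not at hno
  obtain ⟨N, hN, hNodd, hc⟩ := CfsgLib.Invol.zStar_sylow S z hz hno
  rcases hM.simple.eq_bot_or_eq_top_of_normal N hN with h1 | h1
  · have hmem : z ∈ center G := mem_center_iff.2 fun g => by
      have h := hc g
      rw [h1, mem_bot, mul_inv_eq_one, mul_inv_eq_iff_eq_mul] at h
      exact h.symm
    rw [hM.center_eq_bot, mem_bot] at hmem
    exact CfsgLib.Invol.ne_one_of_invol hz hmem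
  · rw [h1, card_top] at hNodd
    exact Nat.not_even_iff_odd.2 hNodd hM.even

open CfsgLib.ConjFunctor in
/-- A nontrivial `p`-element acts on an elementary `2`-subgroup of order at least 8 (16 when `p = 5`). -/
theorem Minimal.exists_big : ∃ E : Subgroup G, Cfsg.IsElementaryAbelian 2 E ∧ 8 ≤ Nat.card E ∧
    (p = 5 → 16 ≤ Nat.card E) := by
  haveI : Fact (Nat.Prime 2) := ⟨Nat.prime_two⟩
  haveI : Fact p.Prime := ⟨hM.prime⟩
  obtain ⟨S⟩ : Nonempty (Sylow 2 G) := inferInstance
  have hSne : (S : Subgroup G) ≠ ⊥ := S.ne_bot_of_dvd_card hM.even.two_dvd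
  haveI : Nontrivial (S : Subgroup G) := (nontrivial_iff_ne_bot _).2 hSne
  haveI : Group.IsNilpotent (S : Subgroup G) := S.isPGroup'.isNilpotent
  obtain ⟨⟨z', hz'c⟩, hz'o⟩ := exists_prime_orderOf_dvd_card' 2 (G := center (S : Subgroup G)) (by
    obtain ⟨k, hk⟩ := (S.isPGroup'.to_subgroup (center (S : Subgroup G))).exists_card_eq
    refine hk ▸ dvd_pow_self 2 ?_
    rintro rfl
    exact Group.IsNilpotent.center_ne_bot _ (eq_bot_of_card_eq _ (by simpa using hk)))
  rw [orderOf_mk] at hz'o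
  set z := (z' : G) with hzdef
  have hz : orderOf z = 2 := by rw [hzdef, Subgroup.orderOf_coe, hz'o]
  have hzS : z ∈ (S : Subgroup G) := z'.2
  have hzc : ∀ s ∈ (S : Subgroup G), s * z = z * s := fun s hs =>
    congrArg Subtype.val (mem_center_iff.1 hz'c ⟨s, hs⟩)
  obtain ⟨U, hUfn, n, hn, hzU, hne⟩ : ∃ U, FullyNorm 2 (S : Subgroup G) U ∧
      ∃ n ∈ normalizer (U : Set G), z ∈ U ∧ n * z * n⁻¹ ≠ z := by
    by_contra hno
    push Not at hno
    have key := alperin_induction S {U | FullyNorm 2 (S : Subgroup G) U}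
      (fun T hT => exists_rep_fullyNorm S T hT)
      (fun D g => (z ∈ D → g * z * g⁻¹ = z) ∧ (z ∈ cj g D → g⁻¹ * z * g = z))
      (fun D D' g hle _ _ h => ⟨fun hz => h.1 (hle hz), fun hz => h.2 (cj_mono hle hz)⟩)
      (fun D g h _ _ _ h1 h2 => ⟨fun hz => by
          have e1 := h1.1 hz
          have e2 := h2.1 (e1 ▸ conj_mem_cj hz)
          calc h * g * z * (h * g)⁻¹ = h * (g * z * g⁻¹) * h⁻¹ := by group
            _ = z := by rw [e1, e2],
        fun hz => by
          rw [cj_mul] at hz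
          have e2 := h2.2 hz
          have e1 := h1.2 (by rw [← e2]; exact mem_cj.1 hz)
          calc (h * g)⁻¹ * z * (h * g) = g⁻¹ * (h⁻¹ * z * h) * g := by group
            _ = z := by rw [e2, e1]⟩)
      (fun D g _ _ h => ⟨fun hz => by rw [inv_inv]; exact h.2 hz, fun hz => by
        rw [cj_inv_cj] at hz; rw [inv_inv]; exact h.1 hz⟩)
      (fun U hU hfn D n hD hn => ⟨fun hz => hno U hfn n hn (hD hz), fun hz => by
        have hzU : z ∈ U := (cj_eq_self_iff.2 hn) ▸ cj_mono hD hz
        have := hno U hfn n⁻¹ (inv_mem hn) hzU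
        rwa [inv_inv] at this⟩)
    obtain ⟨g, hg1, hg2⟩ := hM.exists_fused (S := S) hz
    refine hg2 ((key (zpowers z) g (zpowers_le.2 hzS) ?_).1 (mem_zpowers z))
    rintro _ ⟨y, ⟨i, rfl⟩, rfl⟩
    show g * z ^ i * g⁻¹ ∈ (S : Subgroup G)
    rw [← conj_zpow]
    exact zpow_mem hg1 i
  set N := normalizer (U : Set G) with hN
  have hUS : U ≤ (S : Subgroup G) := hUfn.1
  have hU2 : IsPGroup 2 U := S.isPGroup'.to_le hUS
  -- some `p`-element of `N` moves `z`
  obtain ⟨y, hyN, ⟨k, hyk⟩, hymove⟩ : ∃ y ∈ N, (∃ k, orderOf y = p ^ k) ∧ y * z * y⁻¹ ≠ z := by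
    by_contra hno
    push Not at hno
    refine hne ?_
    set C := centralizer ({z} : Set G) with hC
    have hCN : N ≤ C := by
      rw [← relIndex_eq_one]
      by_contra h1
      obtain ⟨r, hr, hrd⟩ := Nat.exists_prime_and_dvd h1
      haveI : Fact r.Prime := ⟨hr⟩
      have key : ∀ P : Subgroup N, P ≤ C.subgroupOf N → ¬ r ∣ P.index → False := fun P hle hnd =>
        hnd (hrd.trans (index_dvd_of_le hle))
      by_cases hr2 : r = 2
      · subst hr2
        refine key (((S : Subgroup G) ⊓ N).subgroupOf N) (fun x hx => ?_) hUfn.2.not_dvd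
        exact mem_centralizer_singleton_iff.2 (hzc _ hx.1)
      · obtain ⟨P⟩ : Nonempty (Sylow r N) := inferInstance
        refine key P (fun x hx => mem_centralizer_singleton_iff.2 ?_) P.not_dvd_index
        obtain ⟨j, hj⟩ := IsPGroup.iff_orderOf.1 P.isPGroup' ⟨x, hx⟩
        rw [orderOf_mk, ← Subgroup.orderOf_coe] at hj
        by_cases hrp : r = p
        · subst hrp
          exact mul_inv_eq_iff_eq_mul.1 (hno x x.2 ⟨j, hj⟩)
        · exact (hM.hyp.commute_of_odd hU2 hM.prime hM.p_ne_two x.2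
            (by rw [hj]; exact ((hr.odd_of_ne_two hr2)).pow)
            (by rw [hj]; exact ((Nat.coprime_primes hr hM.prime).2 hrp).pow_left j) hzU).eq.symm
    exact mul_inv_eq_iff_eq_mul.2 (mem_centralizer_singleton_iff.1 (hCN hn))
  -- the module
  let V : Subgroup G :=
    { carrier := {v | v ∈ U ∧ v * v = 1 ∧ ∀ u ∈ U, v * u = u * v}
      one_mem' := ⟨one_mem _, by simp, fun u _ => by simp⟩
      mul_mem' := fun {a b} ha hb => ⟨mul_mem ha.1 hb.1, by
          calc a * b * (a * b) = a * (b * a) * b := by group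
            _ = a * (a * b) * b := by rw [hb.2.2 a ha.1]
            _ = (a * a) * (b * b) := by group
            _ = 1 := by rw [ha.2.1, hb.2.1, mul_one],
        fun u hu => by rw [mul_assoc, hb.2.2 u hu, ← mul_assoc, ha.2.2 u hu, mul_assoc]⟩
      inv_mem' := fun {a} ha => by
        have h : a⁻¹ = a := inv_eq_of_mul_eq_one_right ha.2.1
        show a⁻¹ ∈ U ∧ a⁻¹ * a⁻¹ = 1 ∧ ∀ u ∈ U, a⁻¹ * u = u * a⁻¹
        rw [h]
        exact ha }
  have hV : Cfsg.IsElementaryAbelian 2 V :=
    ⟨⟨⟨fun a b => Subtype.ext (a.2.2.2 b b.2.1)⟩⟩, fun v hv => by rw [pow_two]; exact hv.2.1⟩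
  have hzV : z ∈ V :=
    ⟨hzU, CfsgLib.Invol.mul_self_eq_one hz, fun u hu => (hzc u (hUS hu)).symm⟩
  have hNV : N ≤ normalizer (V : Set G) := le_normalizer_iff.2 fun m hm v hv =>
    ⟨(mem_normalizer_iff.1 hm v).1 hv.1, by
      rw [show m * v * m⁻¹ * (m * v * m⁻¹) = m * (v * v) * m⁻¹ by group, hv.2.1, mul_one,
        mul_inv_cancel], fun u hu => by
      have h := hv.2.2 (m⁻¹ * u * m) ((mem_normalizer_iff''.1 hm u).1 hu)
      calc m * v * m⁻¹ * u = m * (v * (m⁻¹ * u * m)) * m⁻¹ := by group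
        _ = m * ((m⁻¹ * u * m) * v) * m⁻¹ := by rw [h]
        _ = u * (m * v * m⁻¹) := by group⟩
  haveI := hV.1
  letI : CommGroup V := { (inferInstance : Group V) with mul_comm := fun a b => hV.1.is_comm.comm a b }
  set a := normalizerMonoidHom V ⟨y, hNV hyN⟩ with ha
  have ha1 : a ≠ 1 := fun h => hymove (congrArg (fun f : MulAut V => ((f ⟨z, hzV⟩ : V) : G)) h)
  obtain ⟨j, -, hj⟩ := (Nat.dvd_prime_pow hM.prime).1 (show orderOf a ∣ p ^ k by
    rw [← hyk, ← Subgroup.orderOf_mk y (hNV hyN)]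
    exact orderOf_map_dvd _ _)
  obtain _ | j := j
  · exact absurd (orderOf_eq_one_iff.1 (by rw [hj, pow_zero])) ha1
  set b := a ^ p ^ j with hb
  have hbo : orderOf b = p := by
    rw [hb, orderOf_pow_of_dvd (pow_ne_zero _ hM.prime.ne_zero) ⟨p, by rw [hj, pow_succ]⟩, hj,
      pow_succ, Nat.mul_div_cancel_left _ (pow_pos hM.prime.pos j)]
  have hmod := fixSub_modEq hbo
  obtain ⟨m, hm⟩ := (CfsgLib.Signalizer.elementary_isPGroup hV).exists_card_eq
  obtain ⟨c, hcm, hc⟩ :=
    (Nat.dvd_prime_pow Nat.prime_two).1 (hm ▸ card_subgroup_dvd_card (fixSub b))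
  have hlt : c < m := by
    refine lt_of_le_of_ne hcm fun hcm' => ?_
    have htop := eq_top_of_card_eq (fixSub b) (by rw [hc, hcm', ← hm])
    have : b = 1 := MulEquiv.ext fun v => mem_fixSub.1 (htop ▸ mem_top v)
    rw [this, orderOf_one] at hbo
    exact hM.prime.ne_one hbo.symm
  obtain ⟨d, rfl⟩ : ∃ d, m = d + 1 + c := ⟨m - c - 1, by omega⟩
  rw [hm, hc, pow_add] at hmod
  have hcop : p.Coprime (2 ^ c) :=
    ((Nat.coprime_primes hM.prime Nat.prime_two).2 hM.p_ne_two).pow_right c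
  have hdvd : p ∣ 2 ^ (d + 1) - 1 := (Nat.modEq_iff_dvd' Nat.one_le_two_pow).1
    (Nat.ModEq.cancel_right_of_coprime hcop (by rw [one_mul]; exact hmod) : 2 ^ (d + 1) ≡ 1 [MOD p]).symm
  have h5 := hM.five_le
  refine ⟨V, hV, ?_, fun hp5 => ?_⟩
  · rw [hm]
    rcases Nat.lt_or_ge d 2 with h | h
    · exfalso
      interval_cases d <;> have := Nat.le_of_dvd (by norm_num) hdvd <;> omega
    · exact le_trans (le_of_eq (by norm_num)) (Nat.pow_le_pow_right two_pos (show 3 ≤ d + 1 + c by omega))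
  · subst hp5
    rw [hm]
    rcases Nat.lt_or_ge d 3 with h | h
    · exfalso
      interval_cases d <;> norm_num at hdvd
    · exact le_trans (le_of_eq (by norm_num)) (Nat.pow_le_pow_right two_pos (show 4 ≤ d + 1 + c by omega))

/-- Every involution lies in an elementary abelian subgroup of order at least 8. -/
theorem Minimal.exists_elementary_of_invol {t : G} (ht : orderOf t = 2) :
    ∃ E : Subgroup G, Cfsg.IsElementaryAbelian 2 E ∧ 8 ≤ Nat.card E ∧ t ∈ E := by
  haveI : Fact (Nat.Prime 2) := ⟨Nat.prime_two⟩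
  obtain ⟨E, hE, hE8, -⟩ := hM.exists_big
  obtain ⟨B, hBE, hBc⟩ := CfsgLib.Signalizer.exists_le_card_eq (k := 3) hE
    (le_of_eq_of_le (by norm_num) hE8)
  obtain ⟨A, hAt, hA8, hAsq⟩ := Cfsg.Agent.S0221.result hM.index_ne_two
    ⟨B, by rw [hBc]; norm_num, fun b hb => hE.2 b (hBE hb)⟩ t ht
  have hA : Cfsg.IsElementaryAbelian 2 A := by
    refine ⟨⟨⟨fun x y => Subtype.ext (Commute.eq ?_)⟩⟩, hAsq⟩
    have e : ∀ w ∈ A, w⁻¹ = w := fun w hw =>
      inv_eq_of_mul_eq_one_right (by rw [← pow_two]; exact hAsq w hw)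
    show (x : G) * y = y * x
    rw [← e _ (mul_mem x.2 y.2), mul_inv_rev, e _ x.2, e _ y.2]
  have hsup := CfsgLib.Signalizer.Connected.elementary_sup
    (CfsgLib.Signalizer.Connected.elementary_zpowers ht) hA (by
      rintro _ ⟨i, rfl⟩ a ha
      exact ((show Commute t a from (mem_centralizer_singleton_iff.1 (hAt ha)).symm).zpow_left i).eq)
  exact ⟨_, hsup, hA8.symm.le.trans (card_le_of_le le_sup_right),
    mem_sup_left (mem_zpowers t)⟩

end CfsgLib.PPrimeNilp
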