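import Mathlib
import Cfsg.Agent.Lib.PPrimeNilp.Moves
import Cfsg.Agent.Lib.Signalizer.Connected
import Cfsg.Agent.Lib.Signalizer.SolvableFunctor
import Cfsg.Agent.S1337

/-!
The signalizer closure of a minimal counterexample is constant on every 2-subgroup.
-/

set_option autoImplicit false
set_option linter.style.haveILetI false
set_option linter.unusedSectionVars false

open Subgroup
open CfsgLib.Signalizer CfsgLib.Components CfsgLib.Balance

namespace CfsgLib.PPrimeNilp

/-- The signalizer closure for `a ↦ O(C(a))`. -/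
def closureOf {G : Type*} [Group G] (E : Subgroup G) : Subgroup G :=
  Cfsg.signalizerClosure E (fun a => Cfsg.centralizerPPrimeCore 2 a)

universe u

variable {G : Type u} [Group G] [Finite G] {p : ℕ} (hM : Minimal p G)
include hM

theorem Minimal.functor_centralizer (a : G) (ha : Connected.Dom 2 a) :
    Cfsg.centralizerPPrimeCore 2 a ≤ centralizer ({a} : Set G) ∧
      ¬ 2 ∣ Nat.card ↥(Cfsg.centralizerPPrimeCore 2 a) ∧
      Group.IsSolvable ↥(Cfsg.centralizerPPrimeCore 2 a) := by
  have hle : Cfsg.centralizerPPrimeCore 2 a ≤ centralizer ({a} : Set G) := coreP_le 2 _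
  refine ⟨hle, fun hd => ?_, ?_⟩
  · exact absurd (Nat.eq_one_of_dvd_coprimes (coreP_coprime 2 (centralizer ({a} : Set G))) hd dvd_rfl)
      (by norm_num)
  · haveI := hM.solv _ (hM.centralizer_ne_top (t := a) fun h => by
      have := ha.1; rw [h, orderOf_one] at this; norm_num at this)
    exact Group.isSolvable_of_isSolvable_injective (inclusion_injective hle)

theorem Minimal.functor_balance [Fact (Nat.Prime 2)] (a b : G) (ha : Connected.Dom 2 a) (hb : Connected.Dom 2 b)
    (hab : a * b = b * a) :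
    Cfsg.centralizerPPrimeCore 2 a ⊓ centralizer {b} ≤ Cfsg.centralizerPPrimeCore 2 b := by
  haveI := hM.solv _ (hM.centralizer_ne_top (t := b) fun h => by
    have := hb.1; rw [h, orderOf_one] at this; norm_num at this)
  exact Connected.balance_of_pLayer_eq_bot ha.1 hab pLayer_eq_bot_of_isSolvable

theorem Minimal.closure_spec {E : Subgroup G} (hE : Cfsg.IsElementaryAbelian 2 E)
    (h8 : 8 ≤ Nat.card E) :
    Odd (Nat.card ↥(closureOf E)) := by
  haveI : Fact (Nat.Prime 2) := ⟨Nat.prime_two⟩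
  rw [← Nat.not_even_iff_odd, even_iff_two_dvd]
  exact (functorTheorem 2 G E _ hE (le_of_eq_of_le (by norm_num) h8)
    (Connected.functor_of_big hM.functor_centralizer
      (fun a g _ => Connected.centralizerPPrimeCore_conj a g) hM.functor_balance hE
      (le_of_eq_of_le (by norm_num) h8))).1

theorem Minimal.core_le_closure {E : Subgroup G} {a : G} (ha : a ∈ E) (ha1 : a ≠ 1) :
    Cfsg.centralizerPPrimeCore 2 a ≤ closureOf E :=
  le_iSup (fun x : {x : G // x ∈ E ∧ x ≠ 1} => Cfsg.centralizerPPrimeCore 2 (x : G)) ⟨a, ha, ha1⟩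

theorem Minimal.closure_map {E : Subgroup G} (g : G) :
    closureOf (E.map (MulAut.conj g).toMonoidHom) =
      (closureOf E).map (MulAut.conj g).toMonoidHom := by
  set c : G →* G := (MulAut.conj g).toMonoidHom with hc
  have hinj : Function.Injective c := (MulAut.conj g).injective
  rw [closureOf, closureOf, Cfsg.signalizerClosure, Cfsg.signalizerClosure, Subgroup.map_iSup]
  refine le_antisymm (iSup_le ?_) (iSup_le fun x => ?_)
  · rintro ⟨_, ⟨x, hx, rfl⟩, hx1⟩
    have hx1' : x ≠ 1 := fun h => hx1 (by rw [h, map_one])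
    refine le_iSup_of_le (⟨x, hx, hx1'⟩ : {a : G // a ∈ E ∧ a ≠ 1}) ?_
    exact le_of_eq (Connected.centralizerPPrimeCore_conj x g)
  · refine le_iSup_of_le (⟨c x.1, mem_map_of_mem c x.2.1,
      fun h => x.2.2 (hinj (h.trans (map_one c).symm))⟩ :
      {a : G // a ∈ E.map c ∧ a ≠ 1}) ?_
    exact le_of_eq (Connected.centralizerPPrimeCore_conj x.1 g).symm

/-- Two elementary subgroups of order at least 8 of one 2-group have the same closure. -/
theorem Minimal.closure_eq_of_le {T E E' : Subgroup G} (hT : IsPGroup 2 T) (hET : E ≤ T) (hE'T : E' ≤ T)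
    (hE : Cfsg.IsElementaryAbelian 2 E) (hE' : Cfsg.IsElementaryAbelian 2 E')
    (h8 : 8 ≤ Nat.card E) (h8' : 8 ≤ Nat.card E') : closureOf E = closureOf E' := by
  haveI : Fact (Nat.Prime 2) := ⟨Nat.prime_two⟩
  have helem : ∀ F : Subgroup G, F ≤ T → Cfsg.IsElementaryAbelian 2 F →
      Cfsg.IsElementaryAbelian 2 (F.subgroupOf T) := fun F _ hF =>
    ⟨⟨⟨fun a b => Subtype.ext (Subtype.ext (elementary_commute hF a.2 b.2))⟩⟩,
      fun a ha => Subtype.ext (hF.2 (a : G) ha)⟩
  have hcardT : ∀ F : Subgroup G, F ≤ T → Nat.card ↥(F.subgroupOf T) = Nat.card F := fun F hF =>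
    Nat.card_congr (subgroupOfEquivOfLe hF).toEquiv
  have hrk : ¬ Cfsg.PRankLE 2 2 ↥T := fun h => by
    have := h _ (helem E hET hE).1 (helem E hET hE).2
    rw [hcardT E hET] at this
    omega
  obtain ⟨U, -, hUe, hUc, hchain⟩ := Cfsg.Agent.S1337.result 2 hT hrk
  have hmapel : ∀ X : Subgroup ↥T, Cfsg.IsElementaryAbelian 2 X →
      Cfsg.IsElementaryAbelian 2 (X.map T.subtype) := fun X hX => by
    refine ⟨⟨⟨?_⟩⟩, ?_⟩
    · rintro ⟨_, a, ha, rfl⟩ ⟨_, b, hb, rfl⟩
      exact Subtype.ext (congrArg T.subtype (elementary_commute hX ha hb) : _)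
    · rintro _ ⟨a, ha, rfl⟩
      rw [← map_pow, hX.2 a ha, map_one]
  have hvert : ∀ X : Subgroup ↥T, Cfsg.IsElementaryAbelian 2 X → 2 ^ 2 ≤ Nat.card X →
      ¬ Cfsg.PRankLE 2 2 ↥(centralizer (X : Set ↥T)) →
      Cfsg.IsRankGraphVertex 2 2 (X.map T.subtype) := by
    intro X hX h4 hX3
    refine ⟨hmapel X hX, by rwa [card_map_of_injective T.subtype_injective], ?_⟩
    obtain ⟨B, hBC, hB, hB8⟩ := Connected.exists_big hX3
    refine Connected.not_rankLE_of_le (hmapel B hB)
      (by rwa [card_map_of_injective T.subtype_injective]) ?_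
    rintro _ ⟨b, hb, rfl⟩
    rw [mem_centralizer_iff]
    rintro _ ⟨x, hx, rfl⟩
    exact congrArg Subtype.val (mem_centralizer_iff.1 (hBC hb) x hx)
  have main : ∀ X : Subgroup ↥T, Relation.ReflTransGen (fun A B : Subgroup ↥T =>
      Cfsg.IsElementaryAbelian 2 A ∧ 2 ^ 2 ≤ Nat.card ↥A ∧ Cfsg.IsElementaryAbelian 2 B ∧
        2 ^ 2 ≤ Nat.card ↥B ∧ ∀ a ∈ A, ∀ b ∈ B, a * b = b * a) X U →
      closureOf (X.map T.subtype) = closureOf (U.map T.subtype) := by
    intro X hX
    induction hX using Relation.ReflTransGen.head_induction_on with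
    | refl => rfl
    | head hAB hBU ih =>
      rename_i A B
      rw [← ih]
      refine Connected.closure_eq_of_commute (functorTheorem 2 G) hM.functor_centralizer
        (fun a g _ => Connected.centralizerPPrimeCore_conj a g) hM.functor_balance
        (hvert A hAB.1 hAB.2.1 ((hchain A hAB.1 hAB.2.1).1 (hBU.head hAB)))
        (hvert B hAB.2.2.1 hAB.2.2.2.1 ((hchain B hAB.2.2.1 hAB.2.2.2.1).1 hBU)) ?_
      rintro _ ⟨a, ha, rfl⟩ _ ⟨b, hb, rfl⟩
      exact congrArg Subtype.val (hAB.2.2.2.2 a ha b hb)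
  have hbig : ∀ F : Subgroup G, F ≤ T → Cfsg.IsElementaryAbelian 2 F → 8 ≤ Nat.card F →
      closureOf F = closureOf (U.map T.subtype) := by
    intro F hFT hF hF8
    have h := main (F.subgroupOf T) ((hchain _ (helem F hFT hF)
      ((le_of_eq_of_le (by norm_num) (le_trans (by norm_num : (4 : ℕ) ≤ 8) hF8)).trans_eq
        (hcardT F hFT).symm)).2
      (Connected.not_rankLE_of_le (helem F hFT hF)
        (le_of_eq_of_le (by norm_num) (hF8.trans_eq (hcardT F hFT).symm))
        (Connected.le_centralizer_self (helem F hFT hF))))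
    rwa [map_subgroupOf_eq_of_le hFT] at h
  rw [hbig E hET hE h8, hbig E' hE'T hE' h8']

end CfsgLib.PPrimeNilp
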