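import Mathlib
import Cfsg.Agent.Lib.PPrimeNilp.Basic
import Cfsg.Agent.Lib.PPrimeNilp.SmallModule
import Cfsg.Agent.Lib.FGS68.FourFreeLocal
import Cfsg.Agent.Lib.FGStruct.FaithfulFrattini
import Cfsg.Agent.Lib.Invol.BaerSuzuki
import Cfsg.Agent.Lib.Case.CharTwo
import Cfsg.Agent.Lib.Signalizer.Connected
import Cfsg.Agent.S0501

/-!
The rank of `O_{2',2}` in a solvable group all of whose `p'`-subgroups are nilpotent.
-/

set_option autoImplicit false
set_option linter.style.haveILetI false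
set_option linter.unusedSectionVars false

open Subgroup
open scoped commutatorElement

namespace CfsgLib.PPrimeNilp

attribute [local instance] CfsgLib.Solvable.pPrimeCore_normal CfsgLib.Solvable.pCore_normal

variable {p : ℕ}

/-- A solvable group with nilpotent `p'`-subgroups acting faithfully on a small elementary group. -/
theorem small_faithful (hp : p.Prime) (hp3 : 3 < p) {Y V : Type*} [Group Y] [Finite Y]
    [Group.IsSolvable Y] [CommGroup V] [Finite V] (hY : Hyp p Y) (hO2 : Cfsg.pCore 2 Y = ⊥)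
    (ι : Y →* MulAut V) (hι : Function.Injective ι) (hexp : ∀ v : V, v * v = 1)
    (h16 : Nat.card V ≤ 16) {e : Y} (he : orderOf e = 2) :
    p = 5 ∧ ∀ f : Y, orderOf f = 2 → Commute e f → e = f := by
  haveI : Fact p.Prime := ⟨hp⟩
  haveI : Fact (Nat.Prime 2) := ⟨Nat.prime_two⟩
  have hp2 : p ≠ 2 := by omega
  have hp5 : 5 ≤ p := by
    rcases Nat.lt_or_ge p 5 with h | h
    · exfalso; interval_cases p; norm_num at hp
    · exact h
  have hmain : ∀ g : Y, orderOf g = 2 → p = 5 ∧ Nat.card V = 16 ∧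
      Nat.card (fixSub (ι g)) = 4 ∧ ∃ y : Y, orderOf y = p := by
    intro g hg
    obtain ⟨w, hw1, hwodd, hwinv⟩ :=
      CfsgLib.Invol.exists_odd_inverted_of_notMem_normal_two hg fun N hN hNp hgN => by
        have hmem : g ∈ Cfsg.pCore 2 Y := CfsgLib.Solvable.le_pCore hN hNp hgN
        rw [hO2, mem_bot] at hmem
        exact CfsgLib.Invol.ne_one_of_invol hg hmem
    obtain ⟨k, hk⟩ := hY.orderOf_inverted hp hp2 hg hwodd hwinv
    obtain _ | k := k
    · exact absurd (orderOf_eq_one_iff.1 (by rw [hk, pow_zero])) hw1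
    set y := w ^ p ^ k with hy
    have hyo : orderOf y = p := by
      rw [hy, orderOf_pow_of_dvd (pow_ne_zero _ hp.ne_zero) ⟨p, by rw [hk, pow_succ]⟩, hk,
        pow_succ, Nat.mul_div_cancel_left _ (pow_pos hp.pos k)]
    have hyinv : ι g * ι y * (ι g)⁻¹ = (ι y)⁻¹ := by
      rw [← map_inv, ← map_mul, ← map_mul, hy, ← conj_pow, hwinv, inv_pow, map_inv]
    obtain ⟨h1, h2, h3⟩ := small_dihedral hexp h16 hp5
      (by rw [orderOf_injective ι hι, hyo]) (by rw [← map_mul, CfsgLib.Invol.mul_self_eq_one hg,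
        map_one]) hyinv
    exact ⟨h1, h2, h3, y, hyo⟩
  obtain ⟨hp5', hV16, -, y, hy⟩ := hmain e he
  refine ⟨hp5', fun f hf hef => ?_⟩
  subst hp5'
  by_contra hne
  -- no involution commutes with an element of order five
  have hnc : ∀ g x : Y, orderOf g = 2 → orderOf x = 5 → ¬ Commute g x := fun g x hg hx hc =>
    not_commute_of_fix_four hV16 (by rw [orderOf_injective ι hι, hx]) (hmain g hg).2.2.1
      (hc.map ι)
  set N := Cfsg.pPrimeCore 5 Y with hN
  have hNnil : Group.IsNilpotent N := hY N (CfsgLib.Solvable.pPrimeCore_card_coprime 5 Y)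
  have hNodd : Odd (Nat.card N) := by
    rw [← Nat.not_even_iff_odd, even_iff_two_dvd]
    intro h2
    obtain ⟨P⟩ : Nonempty (Sylow 2 N) := inferInstance
    haveI : (P : Subgroup N).Normal := inferInstance
    have hle : (P : Subgroup N) ≤ ⊥ := by
      intro x hx
      have h1 : x ∈ Cfsg.pCore 2 N := CfsgLib.Solvable.le_pCore inferInstance P.isPGroup' hx
      have h2' : (x : Y) ∈ Cfsg.pCore 2 Y :=
        CfsgLib.Solvable.map_subtype_pCore_le N ⟨x, h1, rfl⟩
      rw [hO2, mem_bot] at h2'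
      exact mem_bot.2 (Subtype.ext h2')
    exact P.ne_bot_of_dvd_card h2 (le_bot_iff.1 hle)
  set q := QuotientGroup.mk' N with hq
  set L := (Cfsg.pCore 5 (Y ⧸ N)).comap q with hL
  have hLodd : Odd (Nat.card L) := by
    rw [hL, hq, CfsgLib.Solvable.card_comap_mk']
    obtain ⟨a, ha⟩ := CfsgLib.Solvable.card_pCore (p := 5) (G := Y ⧸ N)
    rw [ha]
    exact hNodd.mul ((show Odd 5 by decide).pow)
  have hA : Cfsg.IsElementaryAbelian 2 (zpowers e ⊔ zpowers f) :=
    CfsgLib.Signalizer.Connected.elementary_sup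
      (CfsgLib.Signalizer.Connected.elementary_zpowers he)
      (CfsgLib.Signalizer.Connected.elementary_zpowers hf) (by
        rintro _ ⟨i, rfl⟩ _ ⟨j, rfl⟩
        exact ((hef.zpow_left i).zpow_right j).eq)
  set A := zpowers e ⊔ zpowers f with hAdef
  have hA4 : 2 ^ 2 ≤ Nat.card A := by
    obtain ⟨n, hn⟩ := (CfsgLib.Signalizer.elementary_isPGroup hA).exists_card_eq
    by_contra hlt
    have hlt' : n < 2 := by
      by_contra h
      exact hlt (hn ▸ Nat.pow_le_pow_right two_pos (not_lt.1 h))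
    have hle : Nat.card A ≤ 2 := by
      rw [hn]
      exact Nat.pow_le_pow_right two_pos (show n ≤ 1 by omega)
    have h1 : zpowers e = A := eq_of_le_of_card_ge le_sup_left (by rw [Nat.card_zpowers, he]; exact hle)
    have h2 : zpowers f = A := eq_of_le_of_card_ge le_sup_right (by rw [Nat.card_zpowers, hf]; exact hle)
    have hfe : f ∈ zpowers e := by rw [h1, ← h2]; exact mem_zpowers f
    obtain ⟨k, hk⟩ := (mem_powers_iff_mem_zpowers.2 hfe)
    simp only at hk
    rcases Nat.even_or_odd' k with ⟨m, rfl | rfl⟩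
    · rw [pow_mul, pow_two, CfsgLib.Invol.mul_self_eq_one he, one_pow] at hk
      exact CfsgLib.Invol.ne_one_of_invol hf hk.symm
    · rw [pow_succ, pow_mul, pow_two, CfsgLib.Invol.mul_self_eq_one he, one_pow, one_mul] at hk
      exact hne hk
  haveI := hA.1
  have hLN : L ≤ N := by
    refine CfsgLib.Solvable.le_of_centralizer_le (A := A)
      (CfsgLib.Signalizer.elementary_not_isCyclic hA hA4) le_normalizer_of_normal ?_ ?_
    · obtain ⟨n, hn⟩ := (CfsgLib.Signalizer.elementary_isPGroup hA).exists_card_eq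
      rw [hn]
      exact (Nat.coprime_two_left.2 hLodd).pow_left n
    · intro a ha ha1 x hx
      by_contra hxN
      have hx5 : 5 ∣ orderOf x := by
        obtain ⟨i, hi⟩ := IsPGroup.iff_orderOf.1 (CfsgLib.Solvable.pCore_isPGroup 5 (Y ⧸ N))
          ⟨q x, hx.1⟩
        rw [← Subgroup.orderOf_coe] at hi
        change orderOf (q x) = 5 ^ i at hi
        obtain _ | i := i
        · rw [pow_zero, orderOf_eq_one_iff] at hi
          exact absurd ((QuotientGroup.eq_one_iff x).1 hi) hxN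
        · exact (dvd_pow_self 5 (Nat.succ_ne_zero i)).trans (hi ▸ orderOf_map_dvd q x)
      obtain ⟨m, hm⟩ := hx5
      have hm0 : m ≠ 0 := by rintro rfl; exact (orderOf_pos x).ne' (by simpa using hm)
      refine hnc a (x ^ m) (orderOf_eq_prime (hA.2 a ha) ha1) ?_
        ((show Commute x a from mem_centralizer_singleton_iff.1 hx.2).symm.pow_right m)
      rw [orderOf_pow_of_dvd hm0 ⟨5, by rw [hm, mul_comm]⟩, hm,
        Nat.mul_div_cancel _ (Nat.pos_of_ne_zero hm0)]
  have hbot : Cfsg.pCore 5 (Y ⧸ N) = ⊥ := by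
    rw [eq_bot_iff]
    intro z hz
    obtain ⟨x, rfl⟩ := QuotientGroup.mk'_surjective N z
    exact mem_bot.2 ((QuotientGroup.eq_one_iff x).2 (hLN (mem_comap.2 hz)))
  haveI : Group.IsSolvable (Y ⧸ N) :=
    Group.isSolvable_of_surjective (QuotientGroup.mk'_surjective N)
  have hc := CfsgLib.Case.centralizer_pCore_le_of_solvable (p := 5)
    (CfsgLib.Solvable.pPrimeCore_quotient_eq_bot N hN)
  rw [hbot, coe_bot] at hc
  have hy1 : q y ∈ (⊥ : Subgroup (Y ⧸ N)) := hc (mem_centralizer_iff.2 (by simp))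
  have hyN : y ∈ N := (QuotientGroup.eq_one_iff y).1 (mem_bot.1 hy1)
  have h55 : Nat.Coprime 5 5 := Nat.Coprime.coprime_dvd_left
    (show 5 ∣ Nat.card N by have := N.orderOf_dvd_natCard hyN; rwa [hy] at this)
    (CfsgLib.Solvable.pPrimeCore_card_coprime 5 Y)
  norm_num at h55

/-- The automorphism induced on the quotient by a characteristic subgroup. -/
def quotientAut {Q : Type*} [Group Q] (N : Subgroup Q) [hN : N.Characteristic] :
    MulAut Q →* MulAut (Q ⧸ N) :=
  MonoidHom.mk' (fun φ => QuotientGroup.congr N N φ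
      (characteristic_iff_map_eq.1 hN φ))
    fun φ ψ => MulEquiv.ext fun x => by
      obtain ⟨a, rfl⟩ := QuotientGroup.mk_surjective x
      rfl

/-- The rank of `O₂(X)` when `C(O₂(X)) ≤ O₂(X)`. -/
theorem no_big_elementary (hp : p.Prime) (hp3 : 3 < p) {X : Type*} [Group X] [Finite X]
    [Group.IsSolvable X] (hX : Hyp p X)
    (hC : centralizer (Cfsg.pCore 2 X : Set X) ≤ Cfsg.pCore 2 X)
    (hrk : Cfsg.PRankLE 2 2 ↥(Cfsg.pCore 2 X)) {E : Subgroup X}
    (hE : Cfsg.IsElementaryAbelian 2 E) (hbig : (p ≠ 5 ∧ 8 ≤ Nat.card E) ∨ 16 ≤ Nat.card E) :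
    False := by
  haveI : Fact (Nat.Prime 2) := ⟨Nat.prime_two⟩
  set Q := Cfsg.pCore 2 X with hQ
  have hQp : IsPGroup 2 Q := CfsgLib.Solvable.pCore_isPGroup 2 X
  have hsec := Cfsg.Agent.S0501.result hQp fun A _ hc he => hrk A hc he
  let V := ↥Q ⧸ frattini ↥Q
  letI : CommGroup V :=
    { (inferInstance : Group V) with
      mul_comm := fun a b => by
        obtain ⟨a, rfl⟩ := QuotientGroup.mk'_surjective _ a
        obtain ⟨b, rfl⟩ := QuotientGroup.mk'_surjective _ b
        rw [← map_mul, ← map_mul]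
        refine QuotientGroup.eq.2 (CfsgLib.PGroup.commutator_le_frattini hQp ?_)
        have h : (a * b)⁻¹ * (b * a) = ⁅b⁻¹, a⁻¹⁆ := by
          rw [commutatorElement_def]; group
        rw [h]
        exact commutator_mem_commutator (mem_top _) (mem_top _) }
  have hexp : ∀ v : V, v * v = 1 := fun v => by
    obtain ⟨a, rfl⟩ := QuotientGroup.mk'_surjective _ v
    rw [← map_mul, ← pow_two]
    exact (QuotientGroup.eq_one_iff _).2 (CfsgLib.PGroup.pow_mem_frattini hQp a)
  have h16 : Nat.card V ≤ 16 := by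
    let N : Subgroup (⊤ : Subgroup ↥Q) := (frattini ↥Q).subgroupOf ⊤
    have h := hsec ⊤ N ⊤ ⟨⟨fun x y => Subtype.ext (by
      obtain ⟨a, ha⟩ := QuotientGroup.mk'_surjective N x.1
      obtain ⟨b, hb⟩ := QuotientGroup.mk'_surjective N y.1
      show x.1 * y.1 = y.1 * x.1
      rw [← ha, ← hb, ← map_mul, ← map_mul]
      refine QuotientGroup.eq.2 (mem_subgroupOf.2 (CfsgLib.PGroup.commutator_le_frattini hQp ?_))
      have h : (((a * b)⁻¹ * (b * a) : (⊤ : Subgroup ↥Q)) : ↥Q) =
          ⁅(b : ↥Q)⁻¹, (a : ↥Q)⁻¹⁆ := by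
        rw [commutatorElement_def]; push_cast; group
      rw [h]
      exact commutator_mem_commutator (mem_top _) (mem_top _))⟩⟩ (fun x _ => by
        obtain ⟨a, rfl⟩ := QuotientGroup.mk'_surjective N x
        rw [← map_pow]
        exact (QuotientGroup.eq_one_iff _).2
          (mem_subgroupOf.2 (CfsgLib.PGroup.pow_mem_frattini hQp _)))
    rw [card_top, ← index_eq_card] at h
    show Nat.card (↥Q ⧸ frattini ↥Q) ≤ 16
    rw [← index_eq_card, ← relIndex_top_right]
    exact le_of_le_of_eq h (by norm_num)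
  let φ : X →* MulAut V := (quotientAut (frattini ↥Q)).comp MulAut.conjNormal
  have hker : φ.ker ≤ Q := fun g hg =>
    CfsgLib.FGStruct.mem_pCore_of_trivial_on_frattini hC fun x hx => by
      have h : φ g (QuotientGroup.mk ⟨x, hx⟩) = (QuotientGroup.mk ⟨x, hx⟩ : V) := by
        rw [MonoidHom.mem_ker.1 hg, MulAut.one_apply]
      have h' : (QuotientGroup.mk (MulAut.conjNormal g (⟨x, hx⟩ : ↥Q)) : V) =
          QuotientGroup.mk ⟨x, hx⟩ := h
      have h'' : MulAut.conjNormal g (⟨x, hx⟩ : ↥Q) * (⟨x, hx⟩ : ↥Q)⁻¹ ∈ frattini ↥Q := by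
        rw [← QuotientGroup.eq_one_iff, QuotientGroup.mk_mul, h', QuotientGroup.mk_inv,
          mul_inv_cancel]
      exact ⟨_, h'', by simp⟩
  set Y := φ.range
  haveI : Group.IsSolvable Y := Group.isSolvable_of_surjective φ.rangeRestrict_surjective
  have hY : Hyp p Y := hX.of_surjective hp φ.rangeRestrict φ.rangeRestrict_surjective
  have hkerY : φ.rangeRestrict.ker = φ.ker := φ.ker_rangeRestrict
  have hO2 : Cfsg.pCore 2 Y = ⊥ := by
    rw [CfsgLib.Solvable.pCore_eq_bot_iff]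
    intro N hN hNp
    have h1 : N.comap φ.rangeRestrict ≤ Q :=
      CfsgLib.Solvable.le_pCore (hN.comap _)
        (hNp.comap_of_ker_isPGroup _ (hQp.to_le (hkerY ▸ hker)))
    rw [eq_bot_iff]
    intro y hy
    obtain ⟨g, rfl⟩ := φ.rangeRestrict_surjective y
    have hgQ : g ∈ Q := h1 hy
    refine mem_bot.2 (Subtype.ext (MulEquiv.ext fun v => ?_))
    obtain ⟨a, rfl⟩ := QuotientGroup.mk_surjective v
    show (QuotientGroup.mk (MulAut.conjNormal g a) : V) = QuotientGroup.mk a
    refine QuotientGroup.eq.2 (CfsgLib.PGroup.commutator_le_frattini hQp ?_)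
    have h : (MulAut.conjNormal g a)⁻¹ * a = ⁅(⟨g, hgQ⟩ : ↥Q), a⁻¹⁆ := by
      apply Subtype.ext
      simp only [commutatorElement_def, coe_mul, coe_inv, MulAut.conjNormal_apply, mul_inv_rev,
        inv_inv, mul_assoc]
    rw [h]
    exact commutator_mem_commutator (mem_top _) (mem_top _)
  let g : E →* Y := φ.rangeRestrict.comp E.subtype
  have hk : Nat.card g.ker ≤ 4 := by
    have hle : g.ker.map E.subtype ≤ Q ⊓ E := by
      rintro _ ⟨e, he, rfl⟩
      exact ⟨hker (hkerY ▸ (MonoidHom.mem_ker.2 (MonoidHom.mem_ker.1 he) :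
        (e : X) ∈ φ.rangeRestrict.ker)), e.2⟩
    have hle' : Nat.card g.ker ≤ Nat.card ↥((E ⊓ Q).subgroupOf Q) := by
      rw [Nat.card_congr (subgroupOfEquivOfLe (inf_le_right : E ⊓ Q ≤ Q)).toEquiv,
        ← card_map_of_injective E.subtype_injective, inf_comm]
      exact card_le_of_le hle
    refine hle'.trans (le_of_le_of_eq (hrk _ ⟨⟨fun a b => Subtype.ext (Subtype.ext
      (CfsgLib.Signalizer.elementary_commute hE a.2.1 b.2.1))⟩⟩
      fun a ha => Subtype.ext (hE.2 (a : X) ha.1)) (by norm_num))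
  have hr : Nat.card E = Nat.card g.range * Nat.card g.ker := by
    rw [card_eq_card_quotient_mul_card_subgroup g.ker,
      Nat.card_congr (QuotientGroup.quotientKerEquivRange g).toEquiv]
  have hgr : ∀ y ∈ g.range, y ≠ 1 → orderOf y = 2 := by
    rintro _ ⟨e, rfl⟩ hy
    refine orderOf_eq_prime ?_ hy
    rw [← map_pow, show e ^ 2 = 1 from Subtype.ext (hE.2 (e : X) e.2), map_one]
  obtain ⟨y, hy, hy1⟩ : ∃ y ∈ g.range, y ≠ 1 := by
    by_contra hno
    push Not at hno
    have : g.range = ⊥ := (eq_bot_iff_forall _).2 hno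
    rw [this, card_bot, one_mul] at hr
    omega
  obtain ⟨hp5, huniq⟩ := small_faithful hp hp3 hY hO2 φ.range.subtype φ.range.subtype_injective
    hexp h16 (hgr y hy hy1)
  have h4 : 4 ≤ Nat.card g.range := by
    have h16E : 16 ≤ Nat.card E := hbig.elim (fun h => absurd hp5 h.1) id
    nlinarith
  have hle : Nat.card g.range ≤ 2 := by
    have : Set.univ ⊆ ({⟨1, one_mem _⟩, ⟨y, hy⟩} : Set g.range) := by
      rintro ⟨z, hz⟩ -
      rcases eq_or_ne z 1 with rfl | hz1
      · exact Or.inl rfl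
      · refine Or.inr (Subtype.ext (huniq z (hgr z hz hz1) ?_).symm)
        obtain ⟨a, rfl⟩ := hy
        obtain ⟨b, rfl⟩ := hz
        exact (show Commute a b from Subtype.ext
          (CfsgLib.Signalizer.elementary_commute hE a.2 b.2)).map g
    calc Nat.card g.range = (Set.univ : Set g.range).ncard := (Set.ncard_univ _).symm
      _ ≤ ({⟨1, one_mem _⟩, ⟨y, hy⟩} : Set g.range).ncard :=
          Set.ncard_le_ncard this (Set.toFinite _)
      _ ≤ 2 := (Set.ncard_insert_le _ _).trans (by simp)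
  omega

/-- `O_{2',2}` cut with a Sylow `2`-subgroup. -/
def qPart {C : Type*} [Group C] (S : Sylow 2 C) : Subgroup C :=
  (Cfsg.pCore 2 (C ⧸ Cfsg.pPrimeCore 2 C)).comap (QuotientGroup.mk' _) ⊓ (S : Subgroup C)

section structural

variable {C : Type*} [Group C] [Finite C] (S : Sylow 2 C)

theorem qPart_le : qPart S ≤ (S : Subgroup C) := inf_le_right

theorem mk'_qPart : (qPart S).map (QuotientGroup.mk' (Cfsg.pPrimeCore 2 C)) =
    Cfsg.pCore 2 (C ⧸ Cfsg.pPrimeCore 2 C) := by
  haveI : Fact (Nat.Prime 2) := ⟨Nat.prime_two⟩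
  set f := QuotientGroup.mk' (Cfsg.pPrimeCore 2 C)
  have hf : Function.Surjective f := QuotientGroup.mk'_surjective _
  refine le_antisymm ((map_mono inf_le_left).trans (map_comap_le _ _)) fun z hz => ?_
  obtain ⟨s, hs, rfl⟩ := CfsgLib.Solvable.pCore_le_sylow (S.mapSurjective hf) hz
  exact ⟨s, ⟨hz, hs⟩, rfl⟩

theorem core_sup_normalizer_qPart :
    Cfsg.pPrimeCore 2 C ⊔ normalizer (qPart S : Set C) = ⊤ := by
  set R := Cfsg.pPrimeCore 2 C with hR
  set f := QuotientGroup.mk' R
  set X := (Cfsg.pCore 2 (C ⧸ R)).comap f with hX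
  have h := CfsgLib.FGS68.frattini_inf S X
  have hXle : X ≤ R ⊔ qPart S := by
    rw [hX, ← mk'_qPart S, comap_map_eq, QuotientGroup.ker_mk', sup_comm]
  rw [inf_comm] at h
  refine eq_top_iff.2 (h ▸ sup_le le_sup_right (hXle.trans (sup_le le_sup_left ?_)))
  exact le_normalizer.trans le_sup_right

theorem mem_qPart_of_centralizes [Group.IsSolvable C] {s : C} (hs : s ∈ (S : Subgroup C))
    (h : ∀ q ∈ qPart S, s * q = q * s) : s ∈ qPart S := by
  haveI : Fact (Nat.Prime 2) := ⟨Nat.prime_two⟩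
  set R := Cfsg.pPrimeCore 2 C with hR
  haveI : Group.IsSolvable (C ⧸ R) :=
    Group.isSolvable_of_surjective (QuotientGroup.mk'_surjective R)
  refine ⟨CfsgLib.Case.centralizer_pCore_le_of_solvable (p := 2)
    (CfsgLib.Solvable.pPrimeCore_quotient_eq_bot R hR) (mem_centralizer_iff.2 ?_), hs⟩
  intro z hz
  rw [SetLike.mem_coe, ← mk'_qPart S] at hz
  obtain ⟨q, hq, rfl⟩ := hz
  rw [← map_mul, ← map_mul, h q hq]

/-- With nilpotent `p'`-subgroups, `O_{2',2}` has rank at least three when the Sylow subgroup has. -/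
theorem rank_qPart [Group.IsSolvable C] (hp : p.Prime) (hp3 : 3 < p) (hC : Hyp p C)
    {E : Subgroup C} (hE : Cfsg.IsElementaryAbelian 2 E) (hES : E ≤ (S : Subgroup C))
    (hbig : (p ≠ 5 ∧ 8 ≤ Nat.card E) ∨ 16 ≤ Nat.card E) :
    ¬ Cfsg.PRankLE 2 2 ↥(qPart S) := by
  haveI : Fact (Nat.Prime 2) := ⟨Nat.prime_two⟩
  intro hrk
  set R := Cfsg.pPrimeCore 2 C with hR
  set f := QuotientGroup.mk' R
  have hf : Function.Surjective f := QuotientGroup.mk'_surjective R
  haveI : Group.IsSolvable (C ⧸ R) := Group.isSolvable_of_surjective hf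
  have hinj : ∀ s ∈ (S : Subgroup C), f s = 1 → s = 1 := fun s hs h1 => by
    obtain ⟨k, hk⟩ := S.isPGroup'.exists_card_eq
    exact orderOf_eq_one_iff.1 (Nat.eq_one_of_dvd_coprimes
      ((CfsgLib.Solvable.pPrimeCore_card_coprime 2 C).symm.pow_left k)
      (hk ▸ (S : Subgroup C).orderOf_dvd_natCard hs)
      (R.orderOf_dvd_natCard ((QuotientGroup.eq_one_iff s).1 h1)))
  have hrk' : Cfsg.PRankLE 2 2 ↥(Cfsg.pCore 2 (C ⧸ R)) := by
    intro A hAc hAe
    let ψ : ↥(qPart S) →* ↥(Cfsg.pCore 2 (C ⧸ R)) :=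
      (f.comp (qPart S).subtype).codRestrict _ fun x => x.2.1
    have hψi : Function.Injective ψ := by
      refine (injective_iff_map_eq_one ψ).2 fun x hx => Subtype.ext ?_
      exact hinj x x.2.2 (congrArg Subtype.val hx)
    have hψs : Function.Surjective ψ := fun z => by
      have hz : (z : C ⧸ R) ∈ (qPart S).map f := (mk'_qPart S).symm ▸ z.2
      obtain ⟨q, hq, hqz⟩ := hz
      exact ⟨⟨q, hq⟩, Subtype.ext hqz⟩
    let e := MulEquiv.ofBijective ψ ⟨hψi, hψs⟩
    rw [← card_map_of_injective (K := A) (f := e.symm.toMonoidHom) e.symm.injective]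
    refine hrk _ ⟨⟨?_⟩⟩ ?_
    · rintro ⟨_, a, ha, rfl⟩ ⟨_, b, hb, rfl⟩
      refine Subtype.ext (show e.symm a * e.symm b = e.symm b * e.symm a from ?_)
      rw [← map_mul, ← map_mul, congrArg Subtype.val (hAc.is_comm.comm ⟨a, ha⟩ ⟨b, hb⟩ :
        (⟨a, ha⟩ : A) * ⟨b, hb⟩ = ⟨b, hb⟩ * ⟨a, ha⟩) |>.trans rfl |> fun h => (h :
          a * b = b * a)]
    · rintro _ ⟨a, ha, rfl⟩
      rw [← map_pow, hAe a ha, map_one]
  refine no_big_elementary (E := E.map f) hp hp3 (hC.of_surjective hp f hf)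
    (CfsgLib.Case.centralizer_pCore_le_of_solvable
      (CfsgLib.Solvable.pPrimeCore_quotient_eq_bot R hR)) hrk' ⟨⟨⟨?_⟩⟩, ?_⟩ ?_
  · rintro ⟨_, a, ha, rfl⟩ ⟨_, b, hb, rfl⟩
    refine Subtype.ext (show f a * f b = f b * f a from ?_)
    rw [← map_mul, ← map_mul, CfsgLib.Signalizer.elementary_commute hE ha hb]
  · rintro _ ⟨a, ha, rfl⟩
    rw [← map_pow, hE.2 a ha, map_one]
  · have : Nat.card ↥(E.map f) = Nat.card E := by
      rw [← range_subtype E, MonoidHom.map_range]
      refine (Nat.card_congr (MonoidHom.ofInjective ?_).toEquiv.symm).trans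
        (by rw [range_subtype])
      refine (injective_iff_map_eq_one (f.comp E.subtype)).2 fun x hx => Subtype.ext ?_
      exact hinj x (hES x.2) hx
    rwa [this]

end structural

end CfsgLib.PPrimeNilp
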