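import Mathlib
import Cfsg.Agent.Lib.PPrimeNilp.Basic
import Cfsg.Agent.Lib.Signalizer.Connected
import Cfsg.Agent.Lib.ConjFunctor.Basic

/-!
Small facts on 2-subgroups used in the fusion argument.
-/

set_option autoImplicit false
set_option linter.style.haveILetI false
set_option linter.unusedSectionVars false

open Subgroup
open CfsgLib.Signalizer

namespace CfsgLib.PPrimeNilp

variable {G : Type*} [Group G]

/-- The central elements of order dividing two of a subgroup. -/
def omegaCenter (X : Subgroup G) : Subgroup G where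
  carrier := {v | v ∈ X ∧ v * v = 1 ∧ ∀ u ∈ X, v * u = u * v}
  one_mem' := ⟨one_mem _, by simp, fun u _ => by simp⟩
  mul_mem' := fun {a b} ha hb => ⟨mul_mem ha.1 hb.1, by
      calc a * b * (a * b) = a * (b * a) * b := by group
        _ = a * (a * b) * b := by rw [hb.2.2 a ha.1]
        _ = (a * a) * (b * b) := by group
        _ = 1 := by rw [ha.2.1, hb.2.1, mul_one],
    fun u hu => by rw [mul_assoc, hb.2.2 u hu, ← mul_assoc, ha.2.2 u hu, mul_assoc]⟩
  inv_mem' := fun {a} ha => by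
    have h : a⁻¹ = a := inv_eq_of_mul_eq_one_right ha.2.1
    show a⁻¹ ∈ X ∧ a⁻¹ * a⁻¹ = 1 ∧ ∀ u ∈ X, a⁻¹ * u = u * a⁻¹
    rw [h]
    exact ha

theorem mem_omegaCenter {X : Subgroup G} {v : G} :
    v ∈ omegaCenter X ↔ v ∈ X ∧ v * v = 1 ∧ ∀ u ∈ X, v * u = u * v := Iff.rfl

theorem omegaCenter_le (X : Subgroup G) : omegaCenter X ≤ X := fun _ h => h.1

theorem omegaCenter_elementary (X : Subgroup G) :
    Cfsg.IsElementaryAbelian 2 (omegaCenter X) :=
  ⟨⟨⟨fun a b => Subtype.ext (a.2.2.2 b b.2.1)⟩⟩, fun v hv => by rw [pow_two]; exact hv.2.1⟩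

theorem conj_mem_omegaCenter {X : Subgroup G} {m v : G} (hm : m ∈ normalizer (X : Set G))
    (hv : v ∈ omegaCenter X) : m * v * m⁻¹ ∈ omegaCenter X :=
  ⟨(mem_normalizer_iff.1 hm v).1 hv.1, by
    rw [show m * v * m⁻¹ * (m * v * m⁻¹) = m * (v * v) * m⁻¹ by group, hv.2.1, mul_one,
      mul_inv_cancel], fun u hu => by
    have h := hv.2.2 (m⁻¹ * u * m) ((mem_normalizer_iff''.1 hm u).1 hu)
    calc m * v * m⁻¹ * u = m * (v * (m⁻¹ * u * m)) * m⁻¹ := by group
      _ = m * ((m⁻¹ * u * m) * v) * m⁻¹ := by rw [h]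
      _ = u * (m * v * m⁻¹) := by group⟩

variable [Finite G]

/-- A nontrivial 2-group has a central involution. -/
theorem exists_central_invol {X : Subgroup G} (hX : IsPGroup 2 X) (hne : X ≠ ⊥) :
    ∃ z ∈ omegaCenter X, orderOf z = 2 := by
  haveI : Fact (Nat.Prime 2) := ⟨Nat.prime_two⟩
  haveI : Nontrivial X := (nontrivial_iff_ne_bot _).2 hne
  haveI : Group.IsNilpotent X := hX.isNilpotent
  obtain ⟨⟨z, hzc⟩, hzo⟩ := exists_prime_orderOf_dvd_card' 2 (G := center X) (by
    obtain ⟨k, hk⟩ := (hX.to_subgroup (center X)).exists_card_eq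
    refine hk ▸ dvd_pow_self 2 ?_
    rintro rfl
    exact Group.IsNilpotent.center_ne_bot _ (eq_bot_of_card_eq _ (by simpa using hk)))
  rw [orderOf_mk] at hzo
  have ho : orderOf (z : G) = 2 := by rw [Subgroup.orderOf_coe, hzo]
  exact ⟨z, ⟨z.2, CfsgLib.Invol.mul_self_eq_one ho, fun u hu =>
    (congrArg Subtype.val (mem_center_iff.1 hzc ⟨u, hu⟩)).symm⟩, ho⟩

/-- An elementary group of order at most four with two distinct involutions. -/
theorem four_elements {A : Subgroup G} (h4 : Nat.card A ≤ 4) {t z : G} (ht : t ∈ A) (hz : z ∈ A)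
    (ht2 : orderOf t = 2) (hz2 : orderOf z = 2) (htz : t ≠ z) {a : G} (ha : a ∈ A) :
    a = 1 ∨ a = t ∨ a = z ∨ a = t * z := by
  classical
  have ht1 := CfsgLib.Invol.ne_one_of_invol ht2
  have hz1 := CfsgLib.Invol.ne_one_of_invol hz2
  have h5 : t * z ≠ 1 := fun h => htz (by
    rw [eq_inv_of_mul_eq_one_left h, CfsgLib.Invol.inv_eq_self hz2])
  have h6 : t * z ≠ t := fun h => hz1 (mul_eq_left.1 h)
  have h7 : t * z ≠ z := fun h => ht1 (mul_eq_right.1 h)
  have hsub : ({1, t, z, t * z} : Set G) ⊆ (A : Set G) := by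
    rintro x (rfl | rfl | rfl | rfl)
    · exact one_mem _
    · exact ht
    · exact hz
    · exact mul_mem ht hz
  have hcard : ({1, t, z, t * z} : Set G).ncard = 4 := by
    rw [Set.ncard_insert_of_notMem (by simp [ht1.symm, hz1.symm, h5.symm]),
      Set.ncard_insert_of_notMem (by simp [htz, h6.symm]),
      Set.ncard_pair h7.symm]
  have heq := Set.eq_of_subset_of_ncard_le hsub
    (by rw [hcard, ← Nat.card_coe_set_eq]; exact h4) (Set.toFinite _)
  have ha' : a ∈ ({1, t, z, t * z} : Set G) := heq ▸ ha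
  simpa using ha'

variable {p : ℕ}

/-- In an automiser of a 2-group there is no element of order three. -/
theorem Hyp.commute_of_cube (h : Hyp p G) (hp : p.Prime) (hp3 : 3 < p) {U : Subgroup G}
    (hU : IsPGroup 2 U) {n v : G} (hn : n ∈ normalizer (U : Set G)) (hv : v ∈ U)
    (hc : Commute (n ^ 3) v) : Commute n v := by
  obtain ⟨k, m, hm, hkm⟩ :=
    Nat.exists_eq_pow_mul_and_not_dvd (orderOf_pos n).ne' 3 (by norm_num)
  have h1 : orderOf (n ^ m) = 3 ^ k := by
    rw [orderOf_pow_of_dvd (by rintro rfl; exact hm (dvd_zero 3))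
      ⟨3 ^ k, by rw [hkm, mul_comm]⟩, hkm,
      Nat.mul_div_cancel _ (Nat.pos_of_ne_zero (by rintro rfl; exact hm (dvd_zero 3)))]
  have h2 : Commute (n ^ m) v :=
    (h.commute_of_odd hU hp (by omega) (pow_mem hn m)
      (by rw [h1]; exact ((show Odd 3 by decide).pow))
      (by rw [h1]; exact ((Nat.coprime_primes Nat.prime_three hp).2 (by omega)).pow_left k) hv).symm
  have hcop : Int.gcd (m : ℤ) 3 = 1 := by
    rw [show ((3 : ℤ)) = ((3 : ℕ) : ℤ) from rfl, Int.gcd_natCast_natCast]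
    exact ((Nat.prime_three.coprime_iff_not_dvd).2 hm).symm
  obtain ⟨a, b, hab⟩ := Int.isCoprime_iff_gcd_eq_one.2 hcop
  have : n = (n ^ m) ^ a * (n ^ 3) ^ b := by
    conv_lhs => rw [← zpow_one n, ← hab]
    rw [← zpow_natCast n m, ← zpow_natCast n 3, ← zpow_mul, ← zpow_mul, ← zpow_add,
      mul_comm a, mul_comm b]
    norm_num
  rw [this]
  exact (h2.zpow_left a).mul_left (hc.zpow_left b)

end CfsgLib.PPrimeNilp
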