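import Mathlib
import Cfsg.Agent.Lib.PPrimeNilp.Moves
import Cfsg.Agent.Lib.PPrimeNilp.Rank
import Cfsg.Agent.Lib.PPrimeNilp.Small
import Cfsg.Agent.Lib.SEmb.Counting

/-!
The action on the cosets of a strongly embedded subgroup: two-point stabilisers are `p`-groups and a
Sylow `p`-subgroup is transitive on the involutions fixing a point.
-/

set_option autoImplicit false
set_option linter.style.haveILetI false
set_option linter.unusedSectionVars false

open Subgroup MulAction
open CfsgLib.Signalizer CfsgLib.SEmb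

namespace CfsgLib.PPrimeNilp

attribute [local instance] CfsgLib.Solvable.pPrimeCore_normal CfsgLib.Solvable.pCore_normal

variable {G : Type*} [Group G] [Finite G] {p : ℕ} (hM : Minimal p G)
  {M : Subgroup G} (hH : Cfsg.IsStronglyEmbedded M)

/-- The fixed point of `M`. -/
abbrev base (M : Subgroup G) : G ⧸ M := QuotientGroup.mk 1

include hM hH

theorem mem_of_commute_invol {t g : G} (ht : orderOf t = 2) (htM : t ∈ M) (hc : Commute g t) :
    g ∈ M :=
  (smul_one_eq_iff g).1 (fix_of_commute hH ht ((smul_one_eq_iff t).2 htM) hc)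

theorem exists_four : ∃ E : Subgroup G, Cfsg.IsElementaryAbelian 2 E ∧ 8 ≤ Nat.card E ∧ E ≤ M := by
  haveI : Fact (Nat.Prime 2) := ⟨Nat.prime_two⟩
  obtain ⟨⟨t, htM⟩, ht⟩ := exists_prime_orderOf_dvd_card' 2 (even_iff_two_dvd.mp hH.2.1)
  rw [Subgroup.orderOf_mk] at ht
  obtain ⟨E, hE, hE8, htE⟩ := hM.exists_elementary_of_invol ht
  exact ⟨E, hE, hE8, fun e he =>
    mem_of_commute_invol hM hH ht htM (elementary_commute hE he htE)⟩

/-- A solvable subgroup containing a four-group of `M` lies in `M`. -/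
theorem le_of_four {K B : Subgroup G} [Group.IsSolvable K] (hB : Cfsg.IsElementaryAbelian 2 B)
    (hB4 : 4 ≤ Nat.card B) (hBK : B ≤ K) (hBM : B ≤ M) : K ≤ M := by
  haveI : Fact (Nat.Prime 2) := ⟨Nat.prime_two⟩
  have hBord : ∀ b ∈ B, b ≠ 1 → orderOf b = 2 := fun b hb hb1 => orderOf_eq_prime (hB.2 b hb) hb1
  set B' := B.subgroupOf K with hB'
  have hB'el : Cfsg.IsElementaryAbelian 2 B' :=
    ⟨⟨⟨fun a b => Subtype.ext (Subtype.ext (elementary_commute hB a.2 b.2))⟩⟩,
      fun a ha => Subtype.ext (hB.2 (a : G) ha)⟩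
  have hB'c : Nat.card B' = Nat.card B := Nat.card_congr (subgroupOfEquivOfLe hBK).toEquiv
  obtain ⟨S, hS⟩ := (elementary_isPGroup hB'el).exists_le_sylow
  -- the odd core
  have hR : Cfsg.pPrimeCore 2 K ≤ M.subgroupOf K := by
    haveI := hB'el.1
    refine CfsgLib.Solvable.le_of_centralizer_le (A := B')
      (elementary_not_isCyclic hB'el (by rw [hB'c]; simpa using hB4)) le_normalizer_of_normal ?_ ?_
    · obtain ⟨n, hn⟩ := (elementary_isPGroup hB'el).exists_card_eq
      rw [hn]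
      exact (CfsgLib.Solvable.pPrimeCore_card_coprime 2 K).symm.pow_left n
    · intro b hb hb1 x hx
      refine mem_of_commute_invol hM hH (hBord b hb fun h => hb1 (Subtype.ext h)) (hBM hb) ?_
      exact congrArg Subtype.val (mem_centralizer_singleton_iff.1 hx.2)
  -- the Sylow subgroup
  have hSne : (S : Subgroup K) ≠ ⊥ := by
    intro h
    rw [h, le_bot_iff] at hS
    rw [hS, card_bot] at hB'c
    omega
  have hSM : ∀ s ∈ (S : Subgroup K), (s : G) ∈ M := by
    obtain ⟨z, hzZ, hz⟩ := exists_central_invol S.isPGroup' hSne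
    obtain ⟨b, hb, hb1⟩ : ∃ b ∈ B', b ≠ 1 := by
      by_contra hno
      push Not at hno
      rw [(eq_bot_iff_forall _).2 hno, card_bot] at hB'c
      omega
    have hzo : orderOf (z : G) = 2 := by rw [Subgroup.orderOf_coe, hz]
    have hzM : (z : G) ∈ M := mem_of_commute_invol hM hH (hBord b hb fun h => hb1 (Subtype.ext h))
      (hBM hb) (congrArg Subtype.val (hzZ.2.2 b (hS hb)))
    exact fun s hs => mem_of_commute_invol hM hH hzo hzM
      (congrArg Subtype.val (hzZ.2.2 s hs)).symm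
  have hQne : qPart S ≠ ⊥ := by
    intro h
    refine hSne ((eq_bot_iff_forall _).2 fun s hs => ?_)
    have := mem_qPart_of_centralizes S hs fun q hq => by
      rw [h, mem_bot] at hq
      rw [hq, mul_one, one_mul]
    rwa [h, mem_bot] at this
  obtain ⟨y, hyZ, hy⟩ := exists_central_invol (S.isPGroup'.to_le (qPart_le S)) hQne
  have hyo : orderOf (y : G) = 2 := by rw [Subgroup.orderOf_coe, hy]
  have hyM : (y : G) ∈ M := hSM y (qPart_le S hyZ.1)
  have hN : normalizer (qPart S : Set K) ≤ M.subgroupOf K := by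
    intro n hn
    have hy' := conj_mem_omegaCenter hn hyZ
    have h1 : ((n * y * n⁻¹ : K) : G) ∈ M := hSM _ (qPart_le S hy'.1)
    refine (smul_one_eq_iff (H := M) (n : G)).1 (fix_of_conj hH hyo ((smul_one_eq_iff _).2 hyM) ?_)
    exact (smul_one_eq_iff _).2 h1
  intro k hk
  exact (eq_top_iff.1 ((core_sup_normalizer_qPart S).symm.le.trans (sup_le hR hN) |>
    fun h => eq_top_iff.2 h) (mem_top (⟨k, hk⟩ : K)))

/-- The Hall `p'`-subgroups of `M`. -/
theorem exists_nilpotent_hall (K : Subgroup M) (hK : (Nat.card K).Coprime p) :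
    ∃ D : Subgroup M, Cfsg.IsPiHall {q | q ≠ p} D ∧ K ≤ D ∧ Group.IsNilpotent D ∧
      ∃ B : Subgroup G, Cfsg.IsElementaryAbelian 2 B ∧ 8 ≤ Nat.card B ∧ B ≤ M ∧
        B.subgroupOf M ≤ D := by
  haveI : Group.IsSolvable M := hM.solv M hH.1
  obtain ⟨D, hD, hKD⟩ := CfsgLib.Solvable.exists_isPiHall_ge (G := M) (π := {q | q ≠ p}) (K := K)
    fun q hq hqK hqp => hM.prime.ne_one (Nat.eq_one_of_dvd_coprimes hK (hqp ▸ hqK) dvd_rfl)
  have hDc : (Nat.card D).Coprime p :=
    (hM.prime.coprime_iff_not_dvd.2 fun hd => hD.1 p hM.prime hd rfl).symm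
  obtain ⟨E, hE, hE8, hEM⟩ := exists_four hM hH
  obtain ⟨g, hg⟩ := CfsgLib.Solvable.exists_conj_le_isPiHall hD (K := E.subgroupOf M)
    fun q hq hqE => by
      rw [Nat.card_congr (subgroupOfEquivOfLe hEM).toEquiv] at hqE
      obtain ⟨n, hn⟩ := (elementary_isPGroup (p := 2) hE).exists_card_eq
      rw [hn] at hqE
      have hq2 := (Nat.prime_dvd_prime_iff_eq hq Nat.prime_two).1 (hq.dvd_of_dvd_pow hqE)
      exact fun hqp => hM.p_ne_two (hqp.symm.trans hq2)
  refine ⟨D, hD, hKD, (hM.hyp.subgroup M) D hDc, E.map (MulAut.conj (g : G)).toMonoidHom,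
    Connected.elementary_map hE _,
    hE8.trans_eq (card_map_of_injective (MulAut.conj (g : G)).injective).symm, ?_, ?_⟩
  · rintro _ ⟨e, he, rfl⟩
    exact M.mul_mem (M.mul_mem g.2 (hEM he)) (M.inv_mem g.2)
  · rintro ⟨x, hxM⟩ ⟨e, he, hex⟩
    refine hg ⟨⟨e, hEM he⟩, he, Subtype.ext ?_⟩
    exact hex

/-- An element of prime order other than `2` and `p` fixes at most one point. -/
theorem point_unique_of_prime {w : G} {r : ℕ} (hr : r.Prime) (hr2 : r ≠ 2) (hrp : r ≠ p)
    (hw : orderOf w = r) {x : G ⧸ M} (h1 : w • base M = base M) (hx : w • x = x) : x = base M := by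
  haveI : Fact (Nat.Prime 2) := ⟨Nat.prime_two⟩
  have hcent : ∀ v : G, orderOf v = r → v ∈ M → ∃ B : Subgroup G, Cfsg.IsElementaryAbelian 2 B ∧
      8 ≤ Nat.card B ∧ B ≤ M ∧ ∀ b ∈ B, Commute v b := by
    intro v hv hvM
    obtain ⟨D, -, hvD, hDn, B, hB, hB8, hBM, hBD⟩ := exists_nilpotent_hall hM hH
      (zpowers (⟨v, hvM⟩ : M)) (by
        rw [Nat.card_zpowers, Subgroup.orderOf_mk, hv]
        exact (Nat.coprime_primes hr hM.prime).2 hrp)
    refine ⟨B, hB, hB8, hBM, fun b hb => ?_⟩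
    rcases eq_or_ne b 1 with rfl | hb1
    · exact Commute.one_right v
    · have hc := CfsgLib.NilpPerm.commute_of_coprime_order (G := D)
        (a := ⟨⟨v, hvM⟩, hvD (mem_zpowers _)⟩) (b := ⟨⟨b, hBM hb⟩, hBD hb⟩) (by
          rw [Subgroup.orderOf_mk, Subgroup.orderOf_mk, Subgroup.orderOf_mk, Subgroup.orderOf_mk,
            hv, orderOf_eq_prime (hB.2 b hb) hb1]
          exact (Nat.coprime_primes hr Nat.prime_two).2 hr2)
      exact congrArg (fun d : D => ((d : M) : G)) hc
  induction x using QuotientGroup.induction_on with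
  | _ g =>
  have hwM : w ∈ M := (smul_one_eq_iff w).1 h1
  have hw'M : g⁻¹ * w * g ∈ M := (smul_mk_eq_iff w g).1 hx
  obtain ⟨B, hB, hB8, hBM, hBc⟩ := hcent w hw hwM
  obtain ⟨B', hB', hB'8, hB'M, hB'c⟩ := hcent (g⁻¹ * w * g) (by
    have := CfsgLib.Invol.orderOf_conj g⁻¹ w
    rw [inv_inv] at this
    rw [this, hw]) hw'M
  have hw1 : w ≠ 1 := fun h => hr.ne_one (by rw [← hw, h, orderOf_one])
  set K := centralizer ({w} : Set G) with hK
  haveI : Group.IsSolvable K := hM.solv _ (hM.centralizer_ne_top hw1)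
  have hKM : K ≤ M := le_of_four hM hH hB (by omega)
    (fun b hb => mem_centralizer_singleton_iff.2 (hBc b hb).symm) hBM
  obtain ⟨b, hb, hb1⟩ := exists_ne_one_of_card_le (G := G) (p := 2) (n := 1) (A := B') le_rfl
    (by simp; omega)
  have hbo : orderOf (g * b * g⁻¹) = 2 := by
    rw [CfsgLib.Invol.orderOf_conj, orderOf_eq_prime (hB'.2 b hb) hb1]
  have hbK : g * b * g⁻¹ ∈ K := mem_centralizer_singleton_iff.2 (by
    have h := (hB'c b hb).eq
    calc g * b * g⁻¹ * w = g * (b * (g⁻¹ * w * g)) * g⁻¹ := by group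
      _ = g * (g⁻¹ * w * g * b) * g⁻¹ := by rw [h]
      _ = w * (g * b * g⁻¹) := by group)
  refine point_unique hH hbo ?_ ((smul_one_eq_iff _).2 (hKM hbK))
  rw [smul_mk_eq_iff]
  have : g⁻¹ * (g * b * g⁻¹) * g = b := by group
  rw [this]
  exact hB'M hb

/-- Two-point stabilisers are `p`-groups. -/
theorem isPGroup_two_point {x : G ⧸ M} (hx : x ≠ base M) :
    IsPGroup p ↥(M ⊓ stabilizer G x) := by
  haveI : Fact p.Prime := ⟨hM.prime⟩
  refine IsPGroup.of_card (n := (Nat.card ↥(M ⊓ stabilizer G x)).primeFactorsList.length) ?_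
  refine Nat.eq_prime_pow_of_unique_prime_dvd Nat.card_pos.ne' fun {r} hr hrd => ?_
  haveI : Fact r.Prime := ⟨hr⟩
  obtain ⟨⟨w, hwmem⟩, hw⟩ := exists_prime_orderOf_dvd_card' r hrd
  rw [Subgroup.orderOf_mk] at hw
  obtain ⟨hwM, hwx⟩ := mem_inf.1 hwmem
  by_contra hrp
  have h1 : w • base M = base M := (smul_one_eq_iff w).2 hwM
  by_cases hr2 : r = 2
  · exact hx (point_unique hH (hw.trans hr2) hwx h1)
  · exact hx (point_unique_of_prime hM hH hr hr2 hrp hw h1 hwx)

/-- A Sylow `p`-subgroup of `M` is transitive on the involutions of `M`. -/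
theorem sylow_transitive (P : Sylow p ↥M) {t t' : G} (ht : orderOf t = 2) (htM : t ∈ M)
    (ht' : orderOf t' = 2) (ht'M : t' ∈ M) :
    ∃ c ∈ (P : Subgroup M), (c : G) * t * (c : G)⁻¹ = t' := by
  haveI : Fact p.Prime := ⟨hM.prime⟩
  haveI : Fact (Nat.Prime 2) := ⟨Nat.prime_two⟩
  obtain ⟨D, hD, -, hDn, B, hB, hB8, hBM, hBD⟩ := exists_nilpotent_hall hM hH (⊥ : Subgroup M)
    (by simp)
  -- a central involution of `D`
  obtain ⟨S⟩ : Nonempty (Sylow 2 D) := inferInstance
  haveI hSn : (S : Subgroup D).Normal := inferInstance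
  have h2D : 2 ∣ Nat.card D := by
    obtain ⟨b, hb, hb1⟩ := exists_ne_one_of_card_le (p := 2) (n := 1) (A := B) le_rfl
      (by simp; omega)
    have := orderOf_dvd_natCard (⟨⟨b, hBM hb⟩, hBD hb⟩ : D)
    rwa [Subgroup.orderOf_mk, Subgroup.orderOf_mk, orderOf_eq_prime (hB.2 b hb) hb1] at this
  obtain ⟨z, hzZ, hz⟩ := exists_central_invol S.isPGroup' (S.ne_bot_of_dvd_card h2D)
  have hzD : ∀ d : D, Commute z d := by
    intro d
    have hidx : (centralizer ({z} : Set D)) = ⊤ := by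
      rw [← index_eq_one]
      by_contra h1
      obtain ⟨q, hq, hqd⟩ := Nat.exists_prime_and_dvd h1
      haveI : Fact q.Prime := ⟨hq⟩
      have key : ∀ P : Subgroup D, P ≤ centralizer ({z} : Set D) → ¬ q ∣ P.index → False :=
        fun P hle hnd => hnd (hqd.trans (index_dvd_of_le hle))
      by_cases hq2 : q = 2
      · subst hq2
        exact key S (fun x hx => mem_centralizer_singleton_iff.2 (hzZ.2.2 x hx).symm)
          S.not_dvd_index
      · obtain ⟨P⟩ : Nonempty (Sylow q D) := inferInstance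
        refine key P (fun x hx => mem_centralizer_singleton_iff.2 ?_) P.not_dvd_index
        obtain ⟨k, hk⟩ := IsPGroup.iff_orderOf.1 P.isPGroup' ⟨x, hx⟩
        rw [Subgroup.orderOf_mk] at hk
        exact (CfsgLib.NilpPerm.commute_of_coprime_order (a := x) (b := z) (by
          rw [hk, hz]; exact ((Nat.coprime_primes hq Nat.prime_two).2 hq2).pow_left k)).eq
    exact (mem_centralizer_singleton_iff.1 (hidx ▸ mem_top d)).symm
  set zM : M := (z : M) with hzM
  have hzo : orderOf (zM : G) = 2 := by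
    rw [hzM, Subgroup.orderOf_coe, Subgroup.orderOf_coe, hz]
  -- its centraliser has `p`-power index
  set C := centralizer ({zM} : Set M) with hC
  have hDC : D ≤ C := fun d hd =>
    mem_centralizer_singleton_iff.2 (congrArg Subtype.val (hzD ⟨d, hd⟩).eq).symm
  obtain ⟨a, ha⟩ : ∃ a, C.index = p ^ a :=
    ⟨_, Nat.eq_prime_pow_of_unique_prime_dvd C.index_ne_zero_of_finite fun {r} hr hrd =>
      by_contra fun hrp => hD.2 r hr hrp (hrd.trans (index_dvd_of_le hDC))⟩
  -- `P` is transitive on the cosets of `C`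
  have horb : orbit P (QuotientGroup.mk 1 : M ⧸ C) = Set.univ := by
    refine Set.eq_of_subset_of_ncard_le (Set.subset_univ _) ?_ Set.finite_univ
    rw [Set.ncard_univ, ← index_eq_card, ← index_stabilizer, ha]
    have hst : stabilizer P (QuotientGroup.mk 1 : M ⧸ C) = C.subgroupOf (P : Subgroup M) := by
      ext c
      rw [mem_subgroupOf]
      exact smul_one_eq_iff (H := C) (c : M)
    rw [hst]
    refine Nat.le_of_dvd (Nat.pos_of_ne_zero index_ne_zero_of_finite) ?_
    refine (Nat.Coprime.pow_left a ((hM.prime.coprime_iff_not_dvd).2 P.not_dvd_index)).dvd_of_dvd_mul_right ?_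
    show p ^ a ∣ C.relIndex (P : Subgroup M) * (P : Subgroup M).index
    rw [← inf_relIndex_left, relIndex_mul_index inf_le_left, ← ha]
    exact index_dvd_of_le inf_le_right
  have hreach : ∀ s : G, orderOf s = 2 → s ∈ M →
      ∃ c ∈ (P : Subgroup M), (c : G) * zM * (c : G)⁻¹ = s := by
    intro s hs hsM
    obtain ⟨y, hy⟩ : ∃ y : G ⧸ M, y ≠ base M := by
      by_contra hno
      push Not at hno
      refine hH.1 ((eq_top_iff' M).2 fun g => ?_)
      simpa using QuotientGroup.eq.1 ((hno (QuotientGroup.mk g)).symm)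
    obtain ⟨d, ⟨hd, -⟩, hds⟩ := exists_conj hH hzo hs ((smul_one_eq_iff _).2 zM.2) hy.symm
      ((smul_one_eq_iff _).2 hsM)
    have hdM : d ∈ M := (smul_one_eq_iff d).1 hd
    have : (QuotientGroup.mk ⟨d, hdM⟩ : M ⧸ C) ∈ orbit P (QuotientGroup.mk 1 : M ⧸ C) :=
      horb ▸ Set.mem_univ _
    obtain ⟨c, hc⟩ := this
    refine ⟨c, c.2, ?_⟩
    change (QuotientGroup.mk ((c : M) * 1) : M ⧸ C) = QuotientGroup.mk ⟨d, hdM⟩ at hc
    rw [mul_one, QuotientGroup.eq, hC, mem_centralizer_singleton_iff] at hc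
    have hc' : ((c : M) : G)⁻¹ * d * zM = zM * (((c : M) : G)⁻¹ * d) := congrArg Subtype.val hc
    calc ((c : M) : G) * zM * ((c : M) : G)⁻¹
        = ((c : M) : G) * (zM * (((c : M) : G)⁻¹ * d)) * d⁻¹ := by group
      _ = ((c : M) : G) * (((c : M) : G)⁻¹ * d * zM) * d⁻¹ := by rw [hc']
      _ = d * zM * d⁻¹ := by group
      _ = s := hds
  obtain ⟨c1, hc1, h1⟩ := hreach t ht htM
  obtain ⟨c2, hc2, h2⟩ := hreach t' ht' ht'M
  refine ⟨c2 * c1⁻¹, (P : Subgroup M).mul_mem hc2 ((P : Subgroup M).inv_mem hc1), ?_⟩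
  rw [← h1, ← h2, Subgroup.coe_mul, Subgroup.coe_inv]
  group

end CfsgLib.PPrimeNilp
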