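import Mathlib
import Cfsg.Agent.Lib.PPrimeNilp.PointStab
import Cfsg.Agent.Lib.SEmb.Counting

/-!
A minimal counterexample has no strongly embedded subgroup: counting products of involutions.
-/

set_option autoImplicit false
set_option linter.style.haveILetI false
set_option linter.unusedSectionVars false

open Subgroup MulAction
open CfsgLib.Signalizer CfsgLib.SEmb

namespace CfsgLib.PPrimeNilp

variable {G : Type*} [Group G] [Finite G] {p : ℕ} (hM : Minimal p G)
  {M : Subgroup G} (hH : Cfsg.IsStronglyEmbedded M)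

include hM hH

/-- Some `p`-element has no fixed point, so `p` divides the degree. -/
theorem dvd_degree : p ∣ Nat.card (G ⧸ M) := by
  classical
  haveI : Fact p.Prime := ⟨hM.prime⟩
  haveI : Fintype (G ⧸ M) := Fintype.ofFinite _
  by_contra hnd
  obtain ⟨u, hu, hux⟩ := exists_invol_fix hH (base M)
  obtain ⟨g, hg⟩ : ∃ y : G ⧸ M, y ≠ base M := by
    by_contra hno
    push Not at hno
    refine hH.1 ((eq_top_iff' M).2 fun g => ?_)
    simpa using QuotientGroup.eq.1 ((hno (QuotientGroup.mk g)).symm)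
  set m := Nat.card (Swap (base M) (base M)) with hm
  have hm0 : 0 < m := Nat.card_pos_iff.2 ⟨⟨⟨u, hu, hux⟩⟩, inferInstance⟩
  let I := {x : G ⧸ M // x ≠ base M}
  haveI : Nonempty I := ⟨⟨g, hg⟩⟩
  let A := Σ x : I, Swap (x : G ⧸ M) (x : G ⧸ M)
  let B := Σ x : I, {v : Swap (x : G ⧸ M) (u • (x : G ⧸ M)) // (v : G) ≠ u}
  have hfix : ∀ a : A, ∃ b : B, (b.2.1 : G) = (a.2 : G) := by
    rintro ⟨⟨x, hx⟩, ⟨v, hv, hvx⟩⟩
    have hvu : v ≠ u := fun h => hx (point_unique hH hv hvx (h ▸ hux))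
    have hu2 := CfsgLib.Invol.mul_self_eq_one hu
    have hv2 := CfsgLib.Invol.mul_self_eq_one hv
    have hodd : Odd (orderOf (u * v)) := by
      rw [← Nat.not_even_iff_odd]
      intro heven
      obtain ⟨hcu, hcv⟩ := CfsgLib.Invol.middle_commute hu2 hv2 heven
      have hs := CfsgLib.Invol.middle_orderOf heven (orderOf_pos (u * v))
      exact hx (point_unique hH hs (fix_of_commute hH hv hvx hcv) (fix_of_commute hH hu hux hcu))
    obtain ⟨k, hk⟩ := hM.hyp.orderOf_inverted hM.prime hM.p_ne_two hu hodd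
      (CfsgLib.Invol.conj_prod hu2 hv2)
    have hP : IsPGroup p ↥(zpowers (u * v)) := IsPGroup.of_card (n := k) (by rw [Nat.card_zpowers, hk])
    obtain ⟨⟨x', hx'⟩⟩ : Nonempty (fixedPoints ↥(zpowers (u * v)) (G ⧸ M)) := by
      by_contra hno
      rw [not_nonempty_iff] at hno
      have h := hP.card_modEq_card_fixedPoints (G ⧸ M)
      rw [Nat.card_of_isEmpty (α := fixedPoints ↥(zpowers (u * v)) (G ⧸ M))] at h
      exact hnd (Nat.modEq_zero_iff_dvd.1 h)
    have hfx : (u * v) • x' = x' := hx' ⟨u * v, mem_zpowers _⟩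
    have hv' : v = u * (u * v) := by rw [← mul_assoc, hu2, one_mul]
    have hvx' : v • x' = u • x' := by
      rw [hv', mul_smul, hfx]
    have hx'b : x' ≠ base M := by
      intro h
      rw [h, hux] at hvx'
      exact hx (point_unique hH hv hvx hvx')
    exact ⟨⟨⟨x', hx'b⟩, ⟨⟨v, hv, hvx'⟩, hvu⟩⟩, rfl⟩
  choose f hf using hfix
  have hinj : Function.Injective f := by
    rintro ⟨⟨x, hx⟩, ⟨v, hv, hvx⟩⟩ ⟨⟨y, hy⟩, ⟨w, hw, hwy⟩⟩ hab
    have h := hf ⟨⟨x, hx⟩, ⟨v, hv, hvx⟩⟩
    rw [hab, hf ⟨⟨y, hy⟩, ⟨w, hw, hwy⟩⟩] at h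
    obtain rfl : w = v := h
    obtain rfl := point_unique hH hv hvx hwy
    rfl
  have hle := Nat.card_le_card_of_injective f hinj
  have hA : Nat.card A = Nat.card I * m := by
    rw [Nat.card_sigma, Finset.sum_congr rfl fun (x : I) _ => card_swap_self_eq hH (x : G ⧸ M) (base M),
      Finset.sum_const, Finset.card_univ, ← Nat.card_eq_fintype_card, smul_eq_mul]
  have hB : Nat.card B ≤ Nat.card I * (m - 1) := by
    rw [Nat.card_sigma]
    refine le_of_le_of_eq (Finset.sum_le_sum (g := fun _ => m - 1) fun (x : I) _ => ?_) ?_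
    · have hsw : Nat.card (Swap (x : G ⧸ M) (u • (x : G ⧸ M))) = m := by
        rw [card_swap hH, card_swap_self_eq hH (x : G ⧸ M) (base M)]
      haveI : Fintype (Swap (x : G ⧸ M) (u • (x : G ⧸ M))) := Fintype.ofFinite _
      let u' : Swap (x : G ⧸ M) (u • (x : G ⧸ M)) := ⟨u, hu, rfl⟩
      rw [← hsw]
      refine (Nat.card_congr (Equiv.subtypeEquivRight (q := fun v => v ≠ u') fun v =>
        not_congr ⟨fun h => Subtype.ext h, congrArg Subtype.val⟩)).trans_le ?_
      simp [Nat.card_eq_fintype_card, Fintype.card_subtype_compl]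
    · rw [Finset.sum_const, Finset.card_univ, ← Nat.card_eq_fintype_card, smul_eq_mul]
  rw [hA] at hle
  have h1 : Nat.card I * m ≤ Nat.card I * (m - 1) := hle.trans hB
  have := Nat.le_of_mul_le_mul_left h1 (Nat.card_pos (α := I))
  omega

/-- **A minimal counterexample has no strongly embedded subgroup.** -/
theorem false_of_stronglyEmbedded : False := by
  classical
  haveI : Fact p.Prime := ⟨hM.prime⟩
  haveI : Fact (Nat.Prime 2) := ⟨Nat.prime_two⟩
  obtain ⟨P0⟩ : Nonempty (Sylow p ↥M) := inferInstance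
  set P := (P0 : Subgroup M).map M.subtype with hPdef
  have hPM : P ≤ M := map_subtype_le _
  have hPp : IsPGroup p P := P0.isPGroup'.map _
  let F := {x : G ⧸ M // ∀ c ∈ P, c • x = x}
  have hFbase : ∀ c ∈ P, c • base M = base M := fun c hc => (smul_one_eq_iff c).2 (hPM hc)
  -- the stabiliser of a fixed point of `P`
  have hstab : ∀ x : F, (x : G ⧸ M) ≠ base M → M ⊓ stabilizer G (x : G ⧸ M) = P := by
    intro x hx
    have hle : P ≤ M ⊓ stabilizer G (x : G ⧸ M) :=
      le_inf hPM fun c hc => mem_stabilizer_iff.2 (x.2 c hc)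
    refine le_antisymm ?_ hle
    have h1 := P0.is_maximal' ((isPGroup_two_point hM hH hx).comap_subtype (K := M))
      fun c hc => hle ⟨c, hc, rfl⟩
    intro g hg
    have : (⟨g, (mem_inf.1 hg).1⟩ : M) ∈ (P0 : Subgroup M) := h1 ▸ hg
    exact ⟨_, this, rfl⟩
  -- `p` divides the number of fixed points
  have hFp : p ∣ Nat.card F := by
    have h := hPp.card_modEq_card_fixedPoints (G ⧸ M)
    have e : Nat.card (fixedPoints P (G ⧸ M)) = Nat.card F := by
      refine Nat.card_congr (Equiv.subtypeEquivRight fun x => ?_)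
      exact ⟨fun h c hc => h ⟨c, hc⟩, fun h c => h c c.2⟩
    rw [e] at h
    exact Nat.modEq_zero_iff_dvd.1 (h.symm.trans (Nat.modEq_zero_iff_dvd.2 (dvd_degree hM hH)))
  haveI : Nonempty F := ⟨⟨base M, hFbase⟩⟩
  have hswap : ∀ x : F, ∃ w : G, w • base M = x ∧ w ∈ normalizer (P : Set G) ∧
      ((x : G ⧸ M) = base M → w = 1) ∧ ((x : G ⧸ M) ≠ base M → orderOf w = 2) := by
    intro x
    by_cases hx : (x : G ⧸ M) = base M
    · exact ⟨1, by rw [one_smul, hx], one_mem _, fun _ => rfl, fun h => absurd hx h⟩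
    · obtain ⟨u, hu, hux⟩ := exists_invol_fix hH (base M)
      have hpos : 0 < Nat.card (Swap (base M) (x : G ⧸ M)) := by
        rw [card_swap hH]
        exact Nat.card_pos_iff.2 ⟨⟨⟨u, hu, hux⟩⟩, inferInstance⟩
      obtain ⟨⟨w, hw, hwx⟩⟩ := (Nat.card_pos_iff.1 hpos).1
      refine ⟨w, hwx, ?_, fun h => absurd h hx, fun _ => hw⟩
      have key : ∀ c ∈ P, w * c * w ∈ P := by
        intro c hc
        rw [← hstab x hx, mem_inf, ← smul_one_eq_iff, mem_stabilizer_iff]
        constructor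
        · rw [mul_smul, mul_smul, hwx, x.2 c hc, ← hwx, smul_smul_invol hw]
        · rw [mul_smul, mul_smul, (smul_invol_eq_iff hw (base M) (x : G ⧸ M)).1 hwx, hFbase c hc, hwx]
      refine mem_normalizer_iff.2 fun c => ⟨fun hc => ?_, fun hc => ?_⟩
      · rw [CfsgLib.Invol.inv_eq_self hw]; exact key c hc
      · have h := key _ hc
        rw [CfsgLib.Invol.inv_eq_self hw] at h
        have e : w * (w * c * w) * w = c := by
          calc w * (w * c * w) * w = (w * w) * c * (w * w) := by group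
            _ = c := by rw [CfsgLib.Invol.mul_self_eq_one hw, one_mul, mul_one]
        rwa [e] at h
  choose w hwx hwN hw1 hw2 using hswap
  set N := normalizer (P : Set G) with hN
  set T := N ⊓ M with hT
  have hPT : P ≤ T := le_inf le_normalizer hPM
  have hNF : ∀ n ∈ N, ∀ x : F, ∀ c ∈ P, c • (n • (x : G ⧸ M)) = n • (x : G ⧸ M) := by
    intro n hn x c hc
    have h := x.2 (n⁻¹ * c * n) ((mem_normalizer_iff''.1 hn c).1 hc)
    rw [smul_smul]
    calc (c * n) • (x : G ⧸ M) = (n * (n⁻¹ * c * n)) • (x : G ⧸ M) := by congr 1; group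
      _ = n • (x : G ⧸ M) := by rw [mul_smul, h]
  -- `T` has odd order
  have hTodd : Odd (Nat.card T) := by
    rw [← Nat.not_even_iff_odd, even_iff_two_dvd]
    intro h2
    obtain ⟨⟨t, htT⟩, ht⟩ := exists_prime_orderOf_dvd_card' 2 h2
    rw [Subgroup.orderOf_mk] at ht
    obtain ⟨htN, htM⟩ := mem_inf.1 htT
    obtain ⟨E, hE, hE8, hEM⟩ := exists_four hM hH
    have hEt : ∀ e ∈ E, e ≠ 1 → ∃ a ∈ P, e = a * t := by
      intro e he he1
      obtain ⟨c, hc, hce⟩ := sylow_transitive hM hH P0 ht htM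
        (orderOf_eq_prime (hE.2 e he) he1) (hEM he)
      have hcP : (c : G) ∈ P := ⟨c, hc, rfl⟩
      refine ⟨(c : G) * (t * (c : G)⁻¹ * t⁻¹),
        P.mul_mem hcP ((mem_normalizer_iff.1 htN _).1 (P.inv_mem hcP)), ?_⟩
      rw [← hce]
      group
    obtain ⟨e1, he1, he1'⟩ := exists_ne_one_of_card_le (G := G) (p := 2) (n := 1) (A := E) le_rfl
      (by simp; omega)
    obtain ⟨e2, he2, he2', he12⟩ : ∃ e2 ∈ E, e2 ≠ 1 ∧ e2 ≠ e1 := by
      by_contra hno
      push Not at hno
      have hsub : (E : Set G) ⊆ {1, e1} := fun e he => by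
        by_cases h : e = 1
        · exact Or.inl h
        · exact Or.inr (hno e he h)
      have := Set.ncard_le_ncard hsub (Set.toFinite _)
      rw [← Nat.card_coe_set_eq] at this
      have h2' := (Set.ncard_insert_le (1 : G) {e1}).trans (by simp : ({e1} : Set G).ncard + 1 ≤ 2)
      simp only [SetLike.coe_sort_coe] at this
      omega
    obtain ⟨a, ha, hea⟩ := hEt e1 he1 he1'
    obtain ⟨b, hb, heb⟩ := hEt e2 he2 he2'
    have hmem : e1 * e2 ∈ P := by
      rw [hea, heb, show a * t * (b * t) = a * (t * b * t) by group]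
      refine P.mul_mem ha ?_
      have := (mem_normalizer_iff.1 htN b).1 hb
      rwa [CfsgLib.Invol.inv_eq_self ht] at this
    obtain ⟨k, hk⟩ := IsPGroup.iff_orderOf.1 hPp ⟨_, hmem⟩
    rw [Subgroup.orderOf_mk] at hk
    have h12 : e1 * e2 ≠ 1 := fun h => he12 (by
      have h1 := CfsgLib.Invol.inv_eq_self (orderOf_eq_prime (hE.2 e1 he1) he1')
      rw [← h1]
      exact eq_inv_of_mul_eq_one_right h)
    rw [orderOf_eq_prime (hE.2 _ (E.mul_mem he1 he2)) h12] at hk
    obtain _ | k := k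
    · norm_num at hk
    · exact hM.p_ne_two ((Nat.prime_dvd_prime_iff_eq hM.prime Nat.prime_two).1
        (hk ▸ dvd_pow_self p (Nat.succ_ne_zero k)))
  -- elements of `N` fixing a point
  have hfix : ∀ n ∈ N, ∀ z : F, n • (z : G ⧸ M) = z → (w z)⁻¹ * n * w z ∈ T := by
    intro n hn z hz
    refine mem_inf.2 ⟨N.mul_mem (N.mul_mem (N.inv_mem (hwN z)) hn) (hwN z), ?_⟩
    rw [← smul_one_eq_iff, mul_smul, mul_smul, hwx z, hz, inv_smul_eq_iff, hwx z]
  -- elements of `T` fixing a second point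
  have hT2 : ∀ g ∈ T, ∀ x : F, (x : G ⧸ M) ≠ base M → g • (x : G ⧸ M) = x → g ∈ P := by
    intro g hg x hx hgx
    rw [← hstab x hx]
    exact mem_inf.2 ⟨(mem_inf.1 hg).2, mem_stabilizer_iff.2 hgx⟩
  have hNPconj : ∀ n ∈ N, ∀ g, g ∈ P ↔ n * g * n⁻¹ ∈ P := fun n hn g => mem_normalizer_iff.1 hn g
  have hw_conj : ∀ z : F, ∀ g ∈ T, (w z * g * (w z)⁻¹) • (z : G ⧸ M) = z := by
    intro z g hg
    have hg1 : g • base M = base M := (smul_one_eq_iff g).2 (mem_inf.1 hg).2
    have hinv : (w z)⁻¹ • (z : G ⧸ M) = base M := inv_smul_eq_iff.2 (hwx z).symm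
    rw [mul_smul, mul_smul, hinv, hg1, hwx z]
  have honly : ∀ z : F, ∀ g ∈ T, g ∉ P → ∀ z' : F,
      (w z * g * (w z)⁻¹) • (z' : G ⧸ M) = z' → z' = z := by
    intro z g hg hgP z' hz'
    by_contra hne
    have hinv : (w z)⁻¹ ∈ N := N.inv_mem (hwN z)
    set x : F := ⟨(w z)⁻¹ • (z' : G ⧸ M), hNF _ hinv z'⟩ with hxdef
    have hx : (x : G ⧸ M) ≠ base M := fun h => hne (Subtype.ext (by
      have h' : (w z)⁻¹ • (z' : G ⧸ M) = base M := h
      rw [inv_smul_eq_iff] at h'
      rw [h', hwx z]))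
    refine hgP (hT2 g hg x hx ?_)
    show g • (w z)⁻¹ • (z' : G ⧸ M) = (w z)⁻¹ • (z' : G ⧸ M)
    conv_rhs => rw [← hz']
    rw [smul_smul, smul_smul]
    congr 1
    group
  have hnofix : ∀ x : F, (x : G ⧸ M) ≠ base M → ∀ c ∈ P, ∀ z : F,
      (w x * c) • (z : G ⧸ M) ≠ z := by
    intro x hx c hc z hz
    have hn : w x * c ∈ N := N.mul_mem (hwN x) (le_normalizer hc)
    have hT' := hfix _ hn z hz
    have ho : Odd (orderOf (w x * c)) := by
      have h := hTodd.of_dvd_nat (T.orderOf_dvd_natCard hT')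
      have e := CfsgLib.Invol.orderOf_conj (w z)⁻¹ (w x * c)
      rw [inv_inv] at e
      rwa [e] at h
    obtain ⟨j, hj⟩ := ho
    have hsq : (w x * c) * (w x * c) ∈ P := by
      rw [show (w x * c) * (w x * c) = (w x * c * w x) * c by group]
      refine P.mul_mem ?_ hc
      have h := (hNPconj _ (hwN x) c).1 hc
      rwa [CfsgLib.Invol.inv_eq_self (hw2 x hx)] at h
    have hmem : w x * c ∈ P := by
      have h : ((w x * c) * (w x * c)) ^ (j + 1) = w x * c := by
        rw [← pow_two, ← pow_mul, show 2 * (j + 1) = orderOf (w x * c) + 1 by omega, pow_succ,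
          pow_orderOf_eq_one, one_mul]
      exact h ▸ pow_mem hsq (j + 1)
    have h1 := hFbase _ hmem
    rw [mul_smul, hFbase c hc, hwx x] at h1
    exact hx h1
  -- `|N| = |F| |T|`
  have hcardN : Nat.card N = Nat.card F * Nat.card T := by
    rw [← Nat.card_prod]
    let bN : F := ⟨base M, hFbase⟩
    refine (Nat.card_congr (Equiv.ofBijective
      (fun q : F × T => (⟨w q.1 * q.2, N.mul_mem (hwN q.1) (mem_inf.1 q.2.2).1⟩ : N))
      ⟨?_, ?_⟩)).symm
    · rintro ⟨x, g, hg⟩ ⟨x', g', hg'⟩ h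
      have h' : w x * g = w x' * g' := congrArg Subtype.val h
      have hb : ∀ {g : G}, g ∈ T → g • base M = base M := fun hg =>
        (smul_one_eq_iff _).2 (mem_inf.1 hg).2
      obtain rfl : x = x' := Subtype.ext (by
        rw [← hwx x, ← hwx x']
        conv_lhs => rw [← hb hg, smul_smul, h', mul_smul, hb hg'])
      exact Prod.ext rfl (Subtype.ext (mul_left_cancel h'))
    · rintro ⟨n, hn⟩
      set x : F := ⟨n • base M, hNF n hn bN⟩ with hx
      refine ⟨(x, ⟨(w x)⁻¹ * n, mem_inf.2 ⟨N.mul_mem (N.inv_mem (hwN x)) hn, ?_⟩⟩),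
        Subtype.ext (mul_inv_cancel_left _ _)⟩
      rw [← smul_one_eq_iff, mul_smul, inv_smul_eq_iff, hwx x]
  -- a `p`-element of `N` outside `P`
  obtain ⟨y, hyN, hyP, l, hyl⟩ : ∃ y ∈ N, y ∉ P ∧ ∃ l, orderOf y = p ^ l := by
    obtain ⟨k, hk⟩ := hPp.exists_card_eq
    have hdvd : p ^ (k + 1) ∣ Nat.card N := by
      rw [hcardN, pow_succ', ← hk]
      exact mul_dvd_mul hFp (card_dvd_of_le hPT)
    obtain ⟨Q, hQ⟩ := Sylow.exists_subgroup_card_pow_prime p hdvd
    by_contra hno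
    push Not at hno
    have hle : Q.map N.subtype ≤ P := by
      rintro _ ⟨q, hq, rfl⟩
      by_contra hqP
      obtain ⟨l, hl⟩ := IsPGroup.iff_orderOf.1 (IsPGroup.of_card hQ) ⟨q, hq⟩
      rw [Subgroup.orderOf_mk, ← Subgroup.orderOf_coe] at hl
      exact hno (q : G) q.2 hqP l hl
    have h := card_le_of_le hle
    rw [card_map_of_injective N.subtype_injective, hQ, hk] at h
    exact absurd h (not_le.2 (Nat.pow_lt_pow_right hM.prime.one_lt (Nat.lt_succ_self k)))
  have hy2 : y * y ∉ P := by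
    intro h
    have ho : Odd (orderOf y) := hyl ▸ (hM.prime.odd_of_ne_two hM.p_ne_two).pow
    obtain ⟨j, hj⟩ := ho
    refine hyP ?_
    have e : (y * y) ^ (j + 1) = y := by
      rw [← pow_two, ← pow_mul, show 2 * (j + 1) = orderOf y + 1 by omega, pow_succ,
        pow_orderOf_eq_one, one_mul]
    exact e ▸ pow_mem h (j + 1)
  -- `y` has no fixed point
  have hyfix : ∀ z : F, y • (z : G ⧸ M) ≠ z := by
    intro z hz
    have hg := hfix y hyN z hz
    set g := (w z)⁻¹ * y * w z with hgdef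
    have hgo : orderOf g = p ^ l := by
      have e := CfsgLib.Invol.orderOf_conj (w z)⁻¹ y
      rw [inv_inv] at e
      rw [hgdef, e, hyl]
    have hgP : g ∈ P := by
      have hgM : g ∈ M := (mem_inf.1 hg).2
      have hn : zpowers g ≤ normalizer (P : Set G) := zpowers_le.2 (mem_inf.1 hg).1
      have hsup : IsPGroup p ↥(zpowers g ⊔ P : Subgroup G) :=
        (IsPGroup.of_card (n := l) (by rw [Nat.card_zpowers, hgo])).to_sup_of_normal_right' hPp hn
      have h1 := P0.is_maximal' (hsup.comap_subtype (K := M))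
        fun c hc => mem_sup_right (mem_map_of_mem M.subtype hc)
      have : (⟨g, hgM⟩ : M) ∈ (P0 : Subgroup M) :=
        h1 ▸ (mem_sup_left (mem_zpowers g) : g ∈ zpowers g ⊔ P)
      exact ⟨_, this, rfl⟩
    refine hyP ?_
    have := (hNPconj _ (hwN z) g).1 hgP
    rwa [show w z * g * (w z)⁻¹ = y by rw [hgdef]; group] at this
  -- the count
  let T' := {g : T // (g : G) ∉ P}
  let I := {x : F // (x : G ⧸ M) ≠ base M}
  let J := (((F × T') ⊕ P) ⊕ (I × P)) ⊕ Unit
  let φ : J → N := Sum.elim (Sum.elim (Sum.elim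
    (fun q => ⟨w q.1 * ((q.2 : T) : G) * (w q.1)⁻¹,
      N.mul_mem (N.mul_mem (hwN q.1) (mem_inf.1 q.2.1.2).1) (N.inv_mem (hwN q.1))⟩)
    (fun c => ⟨c, le_normalizer c.2⟩))
    (fun q => ⟨w q.1.1 * (q.2 : G), N.mul_mem (hwN _) (le_normalizer q.2.2)⟩))
    (fun _ => ⟨y, hyN⟩)
  have hbF : ∀ c ∈ P, ∀ z : F, c • (z : G ⧸ M) = z := fun c hc z => z.2 c hc
  have hnotP : ∀ z : F, ∀ g : T', w z * ((g : T) : G) * (w z)⁻¹ ∉ P := fun z g h =>
    g.2 ((hNPconj _ (hwN z) _).2 h)
  have hinj : Function.Injective φ := by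
    intro a b hab
    have h : ((φ a : N) : G) = φ b := congrArg Subtype.val hab
    rcases a with ((⟨z, g⟩ | c) | ⟨x, c⟩) | u <;> rcases b with ((⟨z', g'⟩ | c') | ⟨x', c'⟩) | u' <;>
      simp only [φ, Sum.elim_inl, Sum.elim_inr] at h
    · obtain rfl : z = z' := honly z' _ g'.1.2 g'.2 z (h ▸ hw_conj z _ g.1.2)
      have hg : g = g' := Subtype.ext (Subtype.ext (mul_left_cancel (mul_right_cancel h)))
      rw [hg]
    · exact absurd (h ▸ c'.2) (hnotP z g)
    · exact absurd (h ▸ hw_conj z _ g.1.2) (hnofix x'.1 x'.2 c' c'.2 z)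
    · exact absurd (h ▸ hw_conj z _ g.1.2) (hyfix z)
    · exact absurd (h ▸ c.2) (hnotP z' g')
    · rw [Subtype.ext h]
    · exact absurd (h ▸ hbF c c.2 ⟨base M, hFbase⟩) (hnofix x'.1 x'.2 c' c'.2 _)
    · exact absurd (h ▸ c.2) hyP
    · exact absurd (h.symm ▸ hw_conj z' _ g'.1.2) (hnofix x.1 x.2 c c.2 z')
    · exact absurd (h.symm ▸ hbF c' c'.2 ⟨base M, hFbase⟩) (hnofix x.1 x.2 c c.2 _)
    · obtain rfl : x = x' := Subtype.ext (Subtype.ext (by
        have h' := congrArg (fun g : G => g • base M) h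
        simp only [mul_smul] at h'
        rwa [hFbase c c.2, hFbase c' c'.2, hwx x.1, hwx x'.1] at h'))
      rw [Subtype.ext (mul_left_cancel h)]
    · refine absurd ?_ hy2
      rw [← h, show w x.1 * (c : G) * (w x.1 * c) = (w x.1 * c * w x.1) * c by group]
      refine P.mul_mem ?_ c.2
      have h' := (hNPconj _ (hwN x.1) c).1 c.2
      rwa [CfsgLib.Invol.inv_eq_self (hw2 x.1 x.2)] at h'
    · exact absurd (h.symm ▸ hw_conj z' _ g'.1.2) (hyfix z')
    · exact absurd (h.symm ▸ c'.2) hyP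
    · refine absurd ?_ hy2
      rw [h, show w x'.1 * (c' : G) * (w x'.1 * c') = (w x'.1 * c' * w x'.1) * c' by group]
      refine P.mul_mem ?_ c'.2
      have h' := (hNPconj _ (hwN x'.1) c').1 c'.2
      rwa [CfsgLib.Invol.inv_eq_self (hw2 x'.1 x'.2)] at h'
    · rfl
  haveI : Fintype F := Fintype.ofFinite F
  haveI : Fintype T := Fintype.ofFinite T
  haveI : Fintype P := Fintype.ofFinite P
  have hle := Nat.card_le_card_of_injective φ hinj
  have hT' : Nat.card T' + Nat.card P = Nat.card T := by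
    have e : {g : T // (g : G) ∈ P} ≃ P :=
      { toFun := fun g => ⟨g.1, g.2⟩
        invFun := fun c => ⟨⟨c, hPT c.2⟩, c.2⟩
        left_inv := fun g => rfl
        right_inv := fun c => rfl }
    rw [← Nat.card_congr e, add_comm, ← Nat.card_sum, Nat.card_congr (Equiv.sumCompl _)]
  have hI : Nat.card I + 1 = Nat.card F := by
    have hF0 : 0 < Nat.card F := Nat.card_pos
    have e : Nat.card I = Nat.card F - 1 := by
      rw [show Nat.card I = Nat.card {x : F // x ≠ ⟨base M, hFbase⟩} from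
        Nat.card_congr (Equiv.subtypeEquivRight fun x =>
          ⟨fun h h' => h (congrArg Subtype.val h'), fun h h' => h (Subtype.ext h')⟩)]
      simp [Nat.card_eq_fintype_card, Fintype.card_subtype_compl]
    omega
  have hJ : Nat.card J = Nat.card F * Nat.card T' + Nat.card P + Nat.card I * Nat.card P + 1 := by
    simp [J]
  rw [hJ, hcardN, ← hT', ← hI] at hle
  nlinarith

end CfsgLib.PPrimeNilp
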