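import Mathlib
import Cfsg.Agent.Lib.PPrimeNilp.Rank
import Cfsg.Agent.Lib.PPrimeNilp.Closure
import Cfsg.Agent.Lib.PPrimeNilp.Small
import Cfsg.Agent.S3756
import Cfsg.Agent.S0214

/-!
A minimal counterexample has a strongly embedded subgroup.
-/

set_option autoImplicit false
set_option linter.style.haveILetI false
set_option linter.unusedSectionVars false

open Subgroup
open CfsgLib.Signalizer CfsgLib.Components CfsgLib.Balance

namespace CfsgLib.PPrimeNilp

attribute [local instance] CfsgLib.Solvable.pPrimeCore_normal CfsgLib.Solvable.pCore_normal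

universe u

variable {G : Type u} [Group G] [Finite G] {p : ℕ} (hM : Minimal p G)

theorem card_le_four {A Q : Subgroup G} (hA : Cfsg.IsElementaryAbelian 2 A) (hAQ : A ≤ Q)
    (h : Cfsg.PRankLE 2 2 ↥Q) : Nat.card A ≤ 4 := by
  haveI : Fact (Nat.Prime 2) := ⟨Nat.prime_two⟩
  by_contra hlt
  exact Connected.not_rankLE_of_le hA
    (Connected.pow_three_le_of_lt hA (by norm_num; omega)) hAQ h

theorem map_subtype_elementary {T : Subgroup G} {X : Subgroup ↥T}
    (hX : Cfsg.IsElementaryAbelian 2 X) : Cfsg.IsElementaryAbelian 2 (X.map T.subtype) := by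
  refine ⟨⟨⟨?_⟩⟩, ?_⟩
  · rintro ⟨_, a, ha, rfl⟩ ⟨_, b, hb, rfl⟩
    exact Subtype.ext (congrArg T.subtype (elementary_commute hX ha hb) : _)
  · rintro _ ⟨a, ha, rfl⟩
    rw [← map_pow, hX.2 a ha, map_one]

theorem exists_big_of_rank {Q : Subgroup G} (h : ¬ Cfsg.PRankLE 2 2 ↥Q) :
    ∃ B ≤ Q, Cfsg.IsElementaryAbelian 2 B ∧ 8 ≤ Nat.card B := by
  haveI : Fact (Nat.Prime 2) := ⟨Nat.prime_two⟩
  obtain ⟨B, hBQ, hB, hB8⟩ := Connected.exists_big h
  exact ⟨B, hBQ, hB, by simpa using hB8⟩

section locals

variable {W : Subgroup G}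
  (hW : ∀ E : Subgroup G, Cfsg.IsElementaryAbelian 2 E → 8 ≤ Nat.card E →
    E ≤ normalizer (W : Set G) → closureOf E = W)
include hM hW

theorem normalizer_le_of_big {Q E : Subgroup G} (hQ : Q ≤ normalizer (W : Set G)) (hEQ : E ≤ Q)
    (hE : Cfsg.IsElementaryAbelian 2 E) (h8 : 8 ≤ Nat.card E) :
    normalizer (Q : Set G) ≤ normalizer (W : Set G) := by
  intro n hn
  set c : G →* G := (MulAut.conj n).toMonoidHom with hc
  have hle : E.map c ≤ Q := by
    rintro _ ⟨x, hx, rfl⟩
    exact (mem_normalizer_iff.1 hn x).1 (hEQ hx)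
  have h1 := hW (E.map c) (Connected.elementary_map hE c)
    (h8.trans_eq (card_map_of_injective (MulAut.conj n).injective).symm) (hle.trans hQ)
  rw [hc, hM.closure_map n, hW E hE h8 (hEQ.trans hQ)] at h1
  exact mem_normalizer_iff_map_conj_eq.2 h1

/-- The centraliser of an involution with a Sylow 2-subgroup inside the normaliser of `W`. -/
theorem centralizer_le_step {t : G} (ht : orderOf t = 2) {T E : Subgroup G}
    (hTC : T ≤ centralizer ({t} : Set G)) (hT : IsPGroup 2 T)
    (hmax : ∀ R : Subgroup G, IsPGroup 2 R → R ≤ centralizer ({t} : Set G) → T ≤ R → R = T)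
    (hTW : T ≤ normalizer (W : Set G)) (hET : E ≤ T) (hE : Cfsg.IsElementaryAbelian 2 E)
    (h8 : 8 ≤ Nat.card E)
    (hsmall : ¬ ((p ≠ 5 ∧ 8 ≤ Nat.card E) ∨ 16 ≤ Nat.card E) →
      ∀ Q ≤ T, T ≤ normalizer (Q : Set G) → (∀ s ∈ T, (∀ q ∈ Q, s * q = q * s) → s ∈ Q) →
        Cfsg.PRankLE 2 2 ↥Q →
        centralizer ({t} : Set G) ⊓ normalizer (Q : Set G) ≤ normalizer (W : Set G)) :
    centralizer ({t} : Set G) ≤ normalizer (W : Set G) := by
  haveI : Fact (Nat.Prime 2) := ⟨Nat.prime_two⟩
  set C := centralizer ({t} : Set G) with hC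
  haveI : Group.IsSolvable C := hM.solv _ (hM.centralizer_ne_top (CfsgLib.Invol.ne_one_of_invol ht))
  obtain ⟨S', hS'⟩ := (hT.comap_subtype (K := C)).exists_le_sylow
  have hS'map : (S' : Subgroup C).map C.subtype = T :=
    hmax _ (S'.isPGroup'.map _) (map_subtype_le _) (by
      rw [← map_subgroupOf_eq_of_le hTC]; exact map_mono hS')
  -- `t` lies in `T`
  have htT : t ∈ T := by
    have hsup : IsPGroup 2 ↥(zpowers t ⊔ T : Subgroup G) := by
      refine (IsPGroup.of_card (n := 1) (by rw [Nat.card_zpowers, ht, pow_one])).to_sup_of_normal_left'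
        hT ?_
      exact hTC.trans ((CfsgLib.Signalizer.centralizer_zpowers t).ge.trans (centralizer_le_normalizer _))
    rw [← hmax _ hsup (sup_le (zpowers_le.2 (mem_centralizer_singleton_iff.2 rfl)) hTC) le_sup_right]
    exact mem_sup_left (mem_zpowers t)
  -- the core of `C(t)`
  have hcore : Cfsg.centralizerPPrimeCore 2 t ≤ normalizer (W : Set G) := by
    have hA : Cfsg.IsElementaryAbelian 2 (zpowers t ⊔ E) :=
      Connected.elementary_sup (Connected.elementary_zpowers ht) hE (by
        rintro _ ⟨i, rfl⟩ e he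
        exact ((show Commute t e from
          (mem_centralizer_singleton_iff.1 (hTC (hET he))).symm).zpow_left i).eq)
    have h := hW _ hA (h8.trans (card_le_of_le le_sup_right))
      (sup_le (zpowers_le.2 (hTW htT)) (hET.trans hTW))
    exact ((hM.core_le_closure (mem_sup_left (mem_zpowers t))
      (CfsgLib.Invol.ne_one_of_invol ht)).trans h.le).trans le_normalizer
  set Q := (qPart S').map C.subtype with hQ
  have hQT : Q ≤ T := hS'map ▸ map_mono (qPart_le S')
  have hNQ : C ⊓ normalizer (Q : Set G) ≤ normalizer (W : Set G) := by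
    by_cases hr : Cfsg.PRankLE 2 2 ↥Q
    · by_cases hbig : (p ≠ 5 ∧ 8 ≤ Nat.card E) ∨ 16 ≤ Nat.card E
      · exfalso
        have hEC : E ≤ C := hET.trans hTC
        have hcard : Nat.card ↥(E.subgroupOf C) = Nat.card E :=
          Nat.card_congr (subgroupOfEquivOfLe hEC).toEquiv
        have hES : E.subgroupOf C ≤ (S' : Subgroup C) := by
          intro x hx
          have : (x : G) ∈ (S' : Subgroup C).map C.subtype := hS'map.symm ▸ hET hx
          exact (mem_map_iff_mem C.subtype_injective).1 this
        have hnr := rank_qPart S' hM.prime hM.three_lt (hM.hyp.subgroup C) (E := E.subgroupOf C)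
          ⟨⟨⟨fun a b => Subtype.ext (Subtype.ext (elementary_commute hE a.2 b.2))⟩⟩,
            fun a ha => Subtype.ext (hE.2 (a : G) ha)⟩ hES (by rwa [hcard])
        obtain ⟨B, hBQ, hB, hB8⟩ := exists_big_of_rank hnr
        have := card_le_four (map_subtype_elementary hB) (map_mono hBQ : B.map C.subtype ≤ Q) hr
        rw [card_map_of_injective C.subtype_injective] at this
        omega
      · refine hsmall hbig Q hQT ?_ (fun s hs hc => ?_) hr
        · rw [← hS'map]
          haveI hXn : ((Cfsg.pCore 2 (C ⧸ Cfsg.pPrimeCore 2 C)).comap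
            (QuotientGroup.mk' _)).Normal := inferInstance
          exact (map_mono (show (S' : Subgroup C) ≤ normalizer (qPart S' : Set C) from
            le_normalizer_iff.2 fun s hs q hq => ⟨hXn.conj_mem q hq.1 s,
              (S' : Subgroup C).mul_mem ((S' : Subgroup C).mul_mem hs hq.2)
                ((S' : Subgroup C).inv_mem hs)⟩)).trans (le_normalizer_map C.subtype)
        obtain ⟨s', hs', rfl⟩ := (hS'map.symm ▸ hs : s ∈ (S' : Subgroup C).map C.subtype)
        exact mem_map_of_mem _ (mem_qPart_of_centralizes S' hs' fun q hq =>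
          Subtype.ext (hc _ (mem_map_of_mem C.subtype hq)))
    · obtain ⟨B, hBQ, hB, hB8⟩ := exists_big_of_rank hr
      exact inf_le_right.trans (normalizer_le_of_big hM hW (hQT.trans hTW) hBQ hB hB8)
  intro x hx
  have hmem : (⟨x, hx⟩ : C) ∈ Cfsg.pPrimeCore 2 C ⊔ normalizer (qPart S' : Set C) :=
    (core_sup_normalizer_qPart S').symm ▸ mem_top _
  obtain ⟨r, hr, n, hn, hrn⟩ := mem_sup_of_normal_left.1 hmem
  have : x = (r : G) * n := (congrArg Subtype.val hrn).symm
  rw [this]
  exact mul_mem (hcore ⟨r, hr, rfl⟩) (hNQ ⟨n.2, le_normalizer_map C.subtype ⟨n, hn, rfl⟩⟩)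

end locals

include hM in
/-- **A minimal counterexample has a strongly embedded subgroup.** -/
theorem Minimal.exists_stronglyEmbedded : ∃ M : Subgroup G, Cfsg.IsStronglyEmbedded M := by
  haveI : Fact (Nat.Prime 2) := ⟨Nat.prime_two⟩
  haveI : Fact p.Prime := ⟨hM.prime⟩
  obtain ⟨E0, hE0, hE08, hE016⟩ := hM.exists_big
  obtain ⟨S, hE0S⟩ := (elementary_isPGroup hE0).exists_le_sylow
  have hinvol_ne : ∀ {t : G}, orderOf t = 2 → t ≠ 1 := fun ht => CfsgLib.Invol.ne_one_of_invol ht
  by_cases hW0 : closureOf E0 = ⊥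
  · -- all cores of involution centralisers are trivial
    have hcore : ∀ t : G, orderOf t = 2 → Cfsg.centralizerPPrimeCore 2 t = ⊥ := by
      intro t ht
      obtain ⟨E, hE, hE8, htE⟩ := hM.exists_elementary_of_invol ht
      obtain ⟨P, hEP⟩ := (elementary_isPGroup hE).exists_le_sylow
      obtain ⟨g, hg⟩ := MulAction.exists_smul_eq G S P
      set c : G →* G := (MulAut.conj g).toMonoidHom with hc
      have hle : E0.map c ≤ (P : Subgroup G) := by
        rw [← hg, Sylow.coe_subgroup_smul]
        rintro _ ⟨x, hx, rfl⟩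
        exact ⟨x, hE0S hx, rfl⟩
      have h := hM.closure_eq_of_le P.isPGroup' hEP hle hE (Connected.elementary_map hE0 c) hE8
        (hE08.trans_eq (card_map_of_injective (MulAut.conj g).injective).symm)
      rw [hc, hM.closure_map g, hW0, Subgroup.map_bot] at h
      exact le_bot_iff.1 (h ▸ hM.core_le_closure htE (hinvol_ne ht))
    have hO2 : Cfsg.pCore 2 G = ⊥ := by
      by_contra hne
      exact hM.normalizer_ne_top (CfsgLib.Solvable.pCore_isPGroup 2 G) hne (normalizer_eq_top _)
    have hloc : ∀ N : Subgroup G, Cfsg.IsTwoLocal N → Group.IsSolvable N ∧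
        Cfsg.IsOfCharacteristicTwo ↥N ∧ ¬ Cfsg.Involves (Equiv.Perm (Fin 4)) ↥N := by
      rintro N ⟨T, hT, hTne, rfl⟩
      set N := normalizer (T : Set G) with hN
      haveI hsol : Group.IsSolvable N := hM.solv _ (hM.normalizer_ne_top hT hTne)
      refine ⟨hsol, ?_, ?_⟩
      · refine CfsgLib.Case.centralizer_pCore_le_of_solvable ?_
        obtain ⟨t, htZ, ht⟩ := exists_central_invol hT hTne
        set D := coreP 2 N with hD
        have hDT : D ≤ centralizer (T : Set G) := by
          intro d hd x hx
          have h1 : d * x * d⁻¹ * x⁻¹ ∈ D := by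
            have h2 : x * d⁻¹ * x⁻¹ ∈ D :=
              (mem_normalizer_iff.1 (le_normalizer_coreP 2 N (le_normalizer hx)) d⁻¹).1 (inv_mem hd)
            rw [show d * x * d⁻¹ * x⁻¹ = d * (x * d⁻¹ * x⁻¹) by group]
            exact mul_mem hd h2
          have h2 : d * x * d⁻¹ * x⁻¹ ∈ T :=
            mul_mem ((mem_normalizer_iff.1 (coreP_le 2 N hd) x).1 hx) (inv_mem hx)
          obtain ⟨k, hk⟩ := hT.exists_card_eq
          have h3 : d * x * d⁻¹ * x⁻¹ = 1 := orderOf_eq_one_iff.1 (Nat.eq_one_of_dvd_coprimes
            ((coreP_coprime 2 N).pow_right k) (D.orderOf_dvd_natCard h1)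
            (hk ▸ T.orderOf_dvd_natCard h2))
          exact (mul_inv_eq_iff_eq_mul.1 (mul_inv_eq_one.1 h3)).symm
        set C := centralizer ({t} : Set G) with hC
        haveI : Group.IsSolvable C := hM.solv _ (hM.centralizer_ne_top (hinvol_ne ht))
        have hTC : T ≤ C := fun x hx => mem_centralizer_singleton_iff.2 (htZ.2.2 x hx).symm
        have hDC : D ≤ C := hDT.trans (centralizer_le (Set.singleton_subset_iff.2 htZ.1))
        have hle : D.subgroupOf C ≤
            coreP 2 (centralizer ((T.subgroupOf C : Subgroup C) : Set C)) := by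
          refine le_coreP (fun y hy z hz => Subtype.ext (hDT hy (z : G) hz))
            (le_normalizer_iff.2 fun g hg y hy => ?_)
            ((coreP_coprime 2 N).coprime_dvd_left
              (card_comap_dvd_of_injective _ _ C.subtype_injective))
          refine le_normalizer_iff.1 (le_normalizer_coreP 2 N) (g : G) ?_ (y : G) hy
          exact centralizer_le_normalizer _ fun x hx =>
            congrArg Subtype.val (hg ⟨x, hTC hx⟩ hx)
        have hDbot : D.subgroupOf C ≤ ⊥ := by
          refine hle.trans ((coreP_centralizer_le pLayer_eq_bot_of_isSolvable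
            (hT.comap_subtype (K := C))).trans ?_)
          exact ((map_eq_bot_iff_of_injective _ C.subtype_injective).1 (hcore t ht)).le
        refine (map_eq_bot_iff_of_injective _ N.subtype_injective).1 ?_
        show D = ⊥
        rw [eq_bot_iff]
        intro d hd
        exact mem_bot.2 (congrArg Subtype.val
          (mem_bot.1 (hDbot (show (⟨d, hDC hd⟩ : C) ∈ D.subgroupOf C from hd))))
      · rintro ⟨K, R, hR, ⟨e⟩⟩
        haveI := hR
        haveI : Group.IsSolvable K := Group.isSolvable_of_isSolvable_injective K.subtype_injective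
        have h4 : Hyp p (Equiv.Perm (Fin 4)) := ((hM.hyp.subgroup N).subgroup K).of_surjective hM.prime
          (e.toMonoidHom.comp (QuotientGroup.mk' _))
          (e.surjective.comp (QuotientGroup.mk'_surjective _))
        haveI : Group.IsNilpotent (⊤ : Subgroup (Equiv.Perm (Fin 4))) := h4 ⊤ (by
          rw [card_top, Nat.card_eq_fintype_card, Fintype.card_perm, Fintype.card_fin]
          refine (hM.prime.coprime_iff_not_dvd.2 fun hd => ?_).symm
          have h5 := hM.five_le
          have h24 : p ∣ 2 ^ 3 * 3 := by simpa [Nat.factorial] using hd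
          rcases hM.prime.dvd_mul.1 h24 with h | h
          · have := Nat.le_of_dvd two_pos (hM.prime.dvd_of_dvd_pow h)
            omega
          · have := Nat.le_of_dvd three_pos h
            omega)
        haveI : Group.IsNilpotent (Equiv.Perm (Fin 4)) :=
          Group.isNilpotent_top.1 (by assumption)
        have hs : orderOf (Equiv.swap (0 : Fin 4) 1) = 2 := orderOf_eq_prime (by decide) (by decide)
        haveI : Fact (Nat.Prime 3) := ⟨Nat.prime_three⟩
        have hr : orderOf (Equiv.swap (0 : Fin 4) 1 * Equiv.swap 1 2) = 3 :=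
          orderOf_eq_prime (by decide) (by decide)
        have := CfsgLib.NilpPerm.commute_of_coprime_order
          (show (orderOf (Equiv.swap (0 : Fin 4) 1)).Coprime
            (orderOf (Equiv.swap (0 : Fin 4) 1 * Equiv.swap 1 2)) by rw [hs, hr]; norm_num)
        exact absurd this.eq (by decide)
    have hSne : (S : Subgroup G) ≠ ⊥ := S.ne_bot_of_dvd_card hM.even.two_dvd
    obtain ⟨M, -, hMmax⟩ := (Set.toFinite {N : Subgroup G | Cfsg.IsTwoLocal N}).exists_le_maximal
      (a := normalizer ((S : Subgroup G) : Set G)) ⟨(S : Subgroup G), S.isPGroup', hSne, rfl⟩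
    exact ⟨M, Cfsg.Agent.S3756.result hM.even hO2 hloc M
      ⟨hMmax.1, fun N hN hle => le_antisymm (hMmax.2 hN hle) hle⟩⟩
  · -- the normaliser of the closure is strongly embedded
    set W := closureOf E0 with hWdef
    set M := normalizer (W : Set G) with hMdef
    have hMtop : M ≠ ⊤ := by
      intro h
      rcases hM.simple.eq_bot_or_eq_top_of_normal W (normalizer_eq_top_iff.1 h) with h1 | h1
      · exact hW0 h1
      · have hodd := hM.closure_spec hE0 hE08
        rw [← hWdef, h1, card_top] at hodd
        exact Nat.not_even_iff_odd.2 hodd hM.even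
    have hSM : (S : Subgroup G) ≤ M := by
      intro s hs
      refine mem_normalizer_iff_map_conj_eq.2 ?_
      have hle : E0.map (MulAut.conj s).toMonoidHom ≤ (S : Subgroup G) := by
        rintro _ ⟨x, hx, rfl⟩
        exact mul_mem (mul_mem hs (hE0S hx)) (inv_mem hs)
      exact (hM.closure_map s).symm.trans (hM.closure_eq_of_le S.isPGroup' hle hE0S
        (Connected.elementary_map hE0 _) hE0
        (hE08.trans_eq (card_map_of_injective (MulAut.conj s).injective).symm) hE08)
    -- conjugating 2-subgroups of `M` into `S`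
    have hconjS : ∀ T : Subgroup G, IsPGroup 2 T → T ≤ M →
        ∃ m ∈ M, T.map (MulAut.conj m).toMonoidHom ≤ (S : Subgroup G) := by
      intro T hT hTM
      obtain ⟨P, hP⟩ := (hT.comap_subtype (K := M)).exists_le_sylow
      obtain ⟨m, hm⟩ := MulAction.exists_smul_eq ↥M P (S.subtype hSM)
      refine ⟨m, m.2, ?_⟩
      rintro _ ⟨x, hx, rfl⟩
      have h : (m * ⟨x, hTM hx⟩ * m⁻¹ : M) ∈ (S.subtype hSM : Subgroup M) := by
        rw [← hm, Sylow.coe_subgroup_smul]
        exact ⟨⟨x, hTM hx⟩, hP hx, rfl⟩
      exact h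
    have hW : ∀ E : Subgroup G, Cfsg.IsElementaryAbelian 2 E → 8 ≤ Nat.card E →
        E ≤ normalizer (W : Set G) → closureOf E = W := by
      intro E hE h8 hEM
      obtain ⟨m, hmM, hm⟩ := hconjS E (elementary_isPGroup hE) hEM
      have h := hM.closure_eq_of_le S.isPGroup' hm hE0S (Connected.elementary_map hE _) hE0
        (h8.trans_eq (card_map_of_injective (MulAut.conj m).injective).symm) hE08
      rw [hM.closure_map m, ← hWdef] at h
      exact map_injective (f := (MulAut.conj m).toMonoidHom) (MulAut.conj m).injective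
        (h.trans (mem_normalizer_iff_map_conj_eq.1 hmM).symm)
    -- the centraliser of a central involution of `S`
    obtain ⟨z, hzZ, hz⟩ := exists_central_invol S.isPGroup'
      (S.ne_bot_of_dvd_card hM.even.two_dvd)
    have hSz : (S : Subgroup G) ≤ centralizer ({z} : Set G) := fun x hx =>
      mem_centralizer_singleton_iff.2 (hzZ.2.2 x hx).symm
    have hCz : centralizer ({z} : Set G) ≤ M :=
      centralizer_le_step hM hW hz hSz S.isPGroup' (fun R hR _ hle => S.is_maximal' hR hle) hSM
        hE0S hE0 hE08 fun hnb => absurd (by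
          by_cases hp5 : p = 5
          · exact Or.inr (hE016 hp5)
          · exact Or.inl ⟨hp5, hE08⟩) hnb
    -- involutions of `S` in good position
    have hCt : ∀ t ∈ (S : Subgroup G), orderOf t = 2 →
        (∀ R : Subgroup G, IsPGroup 2 R → R ≤ centralizer ({t} : Set G) ⊓ M →
          (S : Subgroup G) ⊓ centralizer ({t} : Set G) ≤ R →
          R = (S : Subgroup G) ⊓ centralizer ({t} : Set G)) →
        centralizer ({t} : Set G) ≤ M := by
      intro t htS ht hmaxM
      by_cases htz : t = z
      · exact htz ▸ hCz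
      set T := (S : Subgroup G) ⊓ centralizer ({t} : Set G) with hT
      have hT2 : IsPGroup 2 T := S.isPGroup'.to_le inf_le_left
      have htT : t ∈ T := ⟨htS, mem_centralizer_singleton_iff.2 rfl⟩
      have hzT : z ∈ T := ⟨hzZ.1, mem_centralizer_singleton_iff.2 (hzZ.2.2 t htS)⟩
      have htA : t ∈ omegaCenter T := ⟨htT, CfsgLib.Invol.mul_self_eq_one ht, fun x hx =>
        (mem_centralizer_singleton_iff.1 hx.2).symm⟩
      have hzA : z ∈ omegaCenter T :=
        ⟨hzT, CfsgLib.Invol.mul_self_eq_one hz, fun x hx => hzZ.2.2 x hx.1⟩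
      -- `T` is a Sylow 2-subgroup of `C(t)`
      have hTmax : ∀ R : Subgroup G, IsPGroup 2 R → R ≤ centralizer ({t} : Set G) → T ≤ R → R = T := by
        intro R hR hRC hTR
        by_contra hne
        have hlt : T < R := lt_of_le_of_ne hTR (Ne.symm hne)
        have hlt' := CfsgLib.ConjFunctor.lt_inf_normalizer hR hlt
        obtain ⟨a, ⟨haR, haN⟩, haM⟩ : ∃ a ∈ R ⊓ normalizer (T : Set G), a ∉ M := by
          by_contra hall
          push Not at hall
          exact hlt'.ne (hmaxM _ (hR.to_le inf_le_left)
            (le_inf (inf_le_left.trans hRC) hall) hlt'.le).symm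
        have hta : a * t * a⁻¹ = t := by
          rw [mem_centralizer_singleton_iff.1 (hRC haR), mul_inv_cancel_right]
        by_cases hr : Cfsg.PRankLE 2 2 ↥T
        · have hA4 := card_le_four (omegaCenter_elementary T) (omegaCenter_le T) hr
          have hazt : a * z * a⁻¹ = t * z := by
            rcases four_elements hA4 htA hzA ht hz htz (conj_mem_omegaCenter haN hzA) with
              h | h | h | h
            · exact absurd (conj_eq_one_iff.1 h) (hinvol_ne hz)
            · exact absurd (mul_left_cancel (mul_right_cancel (h.trans hta.symm))) (Ne.symm htz)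
            · exact absurd (hCz (mem_centralizer_singleton_iff.2 (mul_inv_eq_iff_eq_mul.1 h))) haM
            · exact h
          -- `T` is not all of `S`
          have hTS : T < (S : Subgroup G) := by
            refine lt_of_le_of_ne inf_le_left fun h => hne ?_
            rw [h] at hTR ⊢
            exact S.is_maximal' hR hTR
          have hlt2 := CfsgLib.ConjFunctor.lt_inf_normalizer S.isPGroup' hTS
          obtain ⟨n, ⟨hnS, hnN⟩, hnT⟩ := SetLike.exists_of_lt hlt2
          have hnz : n * z * n⁻¹ = z := by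
            rw [← hzZ.2.2 n hnS, mul_inv_cancel_right]
          have hnt : n * t * n⁻¹ = t * z := by
            rcases four_elements hA4 htA hzA ht hz htz (conj_mem_omegaCenter hnN htA) with
              h | h | h | h
            · exact absurd (conj_eq_one_iff.1 h) (hinvol_ne ht)
            · exact absurd ⟨hnS, mem_centralizer_singleton_iff.2 (mul_inv_eq_iff_eq_mul.1 h)⟩ hnT
            · exact absurd (mul_left_cancel (mul_right_cancel (h.trans hnz.symm))) htz
            · exact h
          have hcomm : t * z = z * t := (hzZ.2.2 t htS).symm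
          set w := n * a with hw
          have hwt : w * t * w⁻¹ = t * z := by
            rw [hw, show n * a * t * (n * a)⁻¹ = n * (a * t * a⁻¹) * n⁻¹ by group, hta, hnt]
          have hwz : w * z * w⁻¹ = t := by
            rw [hw, show n * a * z * (n * a)⁻¹ = n * (a * z * a⁻¹) * n⁻¹ by group, hazt,
              show n * (t * z) * n⁻¹ = (n * t * n⁻¹) * (n * z * n⁻¹) by group, hnt, hnz, mul_assoc,
              CfsgLib.Invol.mul_self_eq_one hz, mul_one]
          have hw3 : Commute (w ^ 3) t := by
            refine mul_inv_eq_iff_eq_mul.1 ?_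
            have h2 : w * (t * z) * w⁻¹ = z := by
              rw [show w * (t * z) * w⁻¹ = (w * t * w⁻¹) * (w * z * w⁻¹) by group, hwt, hwz,
                hcomm, mul_assoc, CfsgLib.Invol.mul_self_eq_one ht, mul_one]
            rw [show w ^ 3 * t * (w ^ 3)⁻¹ = w * (w * (w * t * w⁻¹) * w⁻¹) * w⁻¹ by
              simp [pow_succ, mul_assoc], hwt,
              h2, hwz]
          have hc := hM.hyp.commute_of_cube hM.prime hM.three_lt hT2 (mul_mem hnN haN) htT hw3
          have h' : w * t * w⁻¹ = t := by rw [hc.eq, mul_inv_cancel_right]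
          rw [hwt] at h'
          exact hinvol_ne hz (mul_eq_left.1 h')
        · obtain ⟨B, hBT, hB, hB8⟩ := exists_big_of_rank hr
          exact haM (normalizer_le_of_big hM hW (inf_le_left.trans hSM) hBT hB hB8 haN)
      -- an elementary subgroup of order 8 inside `T`
      obtain ⟨E, hE, hE8, htE⟩ := hM.exists_elementary_of_invol ht
      set C := centralizer ({t} : Set G) with hC
      have hEC : E ≤ C := fun e he =>
        mem_centralizer_singleton_iff.2 (elementary_commute hE he htE)
      obtain ⟨P1, hP1⟩ := ((elementary_isPGroup hE).comap_subtype (K := C)).exists_le_sylow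
      obtain ⟨P2, hP2⟩ := (hT2.comap_subtype (K := C)).exists_le_sylow
      have hP2T : (P2 : Subgroup C).map C.subtype = T :=
        hTmax _ (P2.isPGroup'.map _) (map_subtype_le _) (by
          rw [← map_subgroupOf_eq_of_le (show T ≤ C from hT ▸ inf_le_right)]; exact map_mono hP2)
      obtain ⟨c, hc⟩ := MulAction.exists_smul_eq ↥C P1 P2
      set cc : G →* G := (MulAut.conj (c : G)).toMonoidHom with hcc
      have hE'T : E.map cc ≤ T := by
        rintro _ ⟨x, hx, rfl⟩
        rw [← hP2T, ← hc, Sylow.coe_subgroup_smul]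
        exact ⟨c * ⟨x, hEC hx⟩ * c⁻¹, ⟨⟨x, hEC hx⟩, hP1 hx, rfl⟩, rfl⟩
      refine centralizer_le_step hM hW ht inf_le_right hT2 hTmax (inf_le_left.trans hSM) hE'T
        (Connected.elementary_map hE _)
        (hE8.trans_eq (card_map_of_injective (MulAut.conj (c : G)).injective).symm) ?_
      intro _ Q hQT hTQ hcq hr
      have htQ : t ∈ Q := hcq t htT fun q hq => (mem_centralizer_singleton_iff.1 (hQT hq).2).symm
      have hzQ : z ∈ Q := hcq z hzT fun q hq => hzZ.2.2 q (hQT hq).1
      have htAQ : t ∈ omegaCenter Q := ⟨htQ, CfsgLib.Invol.mul_self_eq_one ht, fun x hx =>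
        (mem_centralizer_singleton_iff.1 (hQT hx).2).symm⟩
      have hzAQ : z ∈ omegaCenter Q :=
        ⟨hzQ, CfsgLib.Invol.mul_self_eq_one hz, fun x hx => hzZ.2.2 x (hQT hx).1⟩
      have hA4 := card_le_four (omegaCenter_elementary Q) (omegaCenter_le Q) hr
      set Hn := C ⊓ normalizer (Q : Set G) with hHn
      suffices hsub : Hn ≤ centralizer ({z} : Set G) from hsub.trans hCz
      by_contra hnot
      obtain ⟨n0, hn0, hn0z⟩ := SetLike.not_le_iff_exists.1 hnot
      have hmem : ∀ n : G, n * z * n⁻¹ = z → n ∈ centralizer ({z} : Set G) := fun n h =>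
        mem_centralizer_singleton_iff.2 (mul_inv_eq_iff_eq_mul.1 h)
      have hfixt : ∀ n ∈ Hn, n * t * n⁻¹ = t := fun n hn => by
        rw [mem_centralizer_singleton_iff.1 hn.1, mul_inv_cancel_right]
      have hmove : ∀ n ∈ Hn, n * z * n⁻¹ = z ∨ n * z * n⁻¹ = t * z := by
        intro n hn
        rcases four_elements hA4 htAQ hzAQ ht hz htz (conj_mem_omegaCenter hn.2 hzAQ) with
          h | h | h | h
        · exact absurd (conj_eq_one_iff.1 h) (hinvol_ne hz)
        · exact absurd (mul_left_cancel (mul_right_cancel (h.trans (hfixt n hn).symm))) (Ne.symm htz)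
        · exact Or.inl h
        · exact Or.inr h
      have h0 : n0 * z * n0⁻¹ = t * z := (hmove n0 hn0).resolve_left fun h => hn0z (hmem n0 h)
      set K := Hn ⊓ centralizer ({z} : Set G) with hK
      have h2 : K.relIndex Hn = 2 := by
        refine relIndex_eq_two_iff_exists_notMem_and'.2
          ⟨n0, hn0, fun h => hn0z h.2, fun b hb => ?_⟩
        rcases hmove b hb with h | h
        · exact Or.inr ⟨hb, hmem b h⟩
        · refine Or.inl ⟨mul_mem hn0 hb, hmem _ ?_⟩
          rw [show n0 * b * z * (n0 * b)⁻¹ = n0 * (b * z * b⁻¹) * n0⁻¹ by group, h,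
            show n0 * (t * z) * n0⁻¹ = (n0 * t * n0⁻¹) * (n0 * z * n0⁻¹) by group, hfixt n0 hn0, h0,
            ← mul_assoc, CfsgLib.Invol.mul_self_eq_one ht, one_mul]
      have hTK : T ≤ K := le_inf (le_inf inf_le_right hTQ) (inf_le_left.trans hSz)
      have hTeq : T.subgroupOf C = (P2 : Subgroup C) := by
        rw [← hP2T, subgroupOf, comap_map_eq_self_of_injective C.subtype_injective]
      have hodd : ¬ 2 ∣ T.relIndex C := by
        rw [relIndex, hTeq]
        exact P2.not_dvd_index
      refine hodd ?_
      rw [← relIndex_mul_relIndex T K C hTK (inf_le_left.trans inf_le_left),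
        ← relIndex_mul_relIndex K Hn C inf_le_left inf_le_left, h2]
      exact dvd_mul_of_dvd_right (dvd_mul_right 2 _) _
    -- every involution of `M`
    have hCM : ∀ t ∈ M, orderOf t = 2 → centralizer ({t} : Set G) ≤ M := by
      intro t htM ht
      obtain ⟨Tm, htTm, hTmax⟩ := (Set.toFinite {R : Subgroup G | IsPGroup 2 R ∧
          R ≤ centralizer ({t} : Set G) ⊓ M}).exists_le_maximal (a := zpowers t)
        ⟨IsPGroup.of_card (n := 1) (by rw [Nat.card_zpowers, ht, pow_one]),
          zpowers_le.2 ⟨mem_centralizer_singleton_iff.2 rfl, htM⟩⟩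
      obtain ⟨m, hm, hmS⟩ := hconjS Tm hTmax.1.1 (hTmax.1.2.trans inf_le_right)
      set c : G →* G := (MulAut.conj m).toMonoidHom with hc
      set t' := m * t * m⁻¹ with ht'def
      have hct : c t = t' := rfl
      have ht' : orderOf t' = 2 := by rw [ht'def, CfsgLib.Invol.orderOf_conj, ht]
      have ht'S : t' ∈ (S : Subgroup G) := hmS ⟨t, htTm (mem_zpowers t), rfl⟩
      have hle : centralizer ({t'} : Set G) ≤ M := by
        refine hCt t' ht'S ht' fun R hR hRle hSR => ?_
        have h1 : Tm.map c ≤ (S : Subgroup G) ⊓ centralizer ({t'} : Set G) := by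
          refine le_inf hmS ?_
          rintro _ ⟨x, hx, rfl⟩
          refine mem_centralizer_singleton_iff.2 ?_
          rw [← hct, ← map_mul, ← map_mul,
            mem_centralizer_singleton_iff.1 (hTmax.1.2 hx).1]
        have h2 : R.map (MulAut.conj m⁻¹).toMonoidHom ≤ centralizer ({t} : Set G) ⊓ M := by
          rintro _ ⟨x, hx, rfl⟩
          obtain ⟨hxc, hxM⟩ := hRle hx
          refine ⟨mem_centralizer_singleton_iff.2 ?_, ?_⟩
          · show m⁻¹ * x * m⁻¹⁻¹ * t = t * (m⁻¹ * x * m⁻¹⁻¹)
            calc m⁻¹ * x * m⁻¹⁻¹ * t = m⁻¹ * (x * t') * m := by rw [ht'def]; group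
              _ = m⁻¹ * (t' * x) * m := by rw [mem_centralizer_singleton_iff.1 hxc]
              _ = t * (m⁻¹ * x * m⁻¹⁻¹) := by rw [ht'def]; group
          · exact M.mul_mem (M.mul_mem (M.inv_mem hm) hxM) (M.inv_mem (M.inv_mem hm))
        have h3 : Tm ≤ R.map (MulAut.conj m⁻¹).toMonoidHom := fun x hx =>
          ⟨c x, hSR (h1 ⟨x, hx, rfl⟩), by simp [hc, mul_assoc]⟩
        have h4 : R.map (MulAut.conj m⁻¹).toMonoidHom = Tm :=
          le_antisymm (hTmax.2 ⟨hR.map _, h2⟩ h3) h3
        refine (eq_of_le_of_card_ge hSR ?_).symm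
        rw [← card_map_of_injective (K := R) (f := (MulAut.conj m⁻¹).toMonoidHom)
          (MulAut.conj m⁻¹).injective, h4, ← card_map_of_injective (K := Tm) (f := c)
          (MulAut.conj m).injective]
        exact card_le_of_le h1
      intro x hx
      have h : m * x * m⁻¹ ∈ M := hle (mem_centralizer_singleton_iff.2 (by
        rw [← hct]
        show c x * c t = c t * c x
        rw [← map_mul, ← map_mul, mem_centralizer_singleton_iff.1 hx]))
      have := mul_mem (mul_mem (inv_mem hm) h) hm
      simpa [mul_assoc] using this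
    have hPne : (S.subtype hSM : Subgroup M) ≠ ⊥ := by
      intro h
      refine S.ne_bot_of_dvd_card hM.even.two_dvd ?_
      rw [eq_bot_iff]
      intro x hx
      have hx' : (⟨x, hSM hx⟩ : M) ∈ (S.subtype hSM : Subgroup M) := hx
      rw [h, mem_bot] at hx'
      exact mem_bot.2 (congrArg Subtype.val hx')
    refine ⟨M, (Cfsg.Agent.S0214.result M hMtop (S.subtype hSM) hPne).2 ?_⟩
    intro X hX hXne n hn
    set X' := X.map M.subtype with hX'
    have hX'S : X' ≤ (S : Subgroup G) := by
      rintro _ ⟨x, hx, rfl⟩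
      exact hX hx
    have hX'ne : X' ≠ ⊥ := fun h =>
      hXne ((map_eq_bot_iff_of_injective _ M.subtype_injective).1 h)
    have hX'2 : IsPGroup 2 X' := S.isPGroup'.to_le hX'S
    obtain ⟨a, haA, ha⟩ := exists_central_invol hX'2 hX'ne
    set A := omegaCenter X' with hA
    have hAM : A ≤ M := (omegaCenter_le X').trans (hX'S.trans hSM)
    have hnA : n ∈ normalizer (A : Set G) := mem_normalizer_iff.2 fun y =>
      ⟨fun hy => conj_mem_omegaCenter hn hy, fun hy => by
        have := conj_mem_omegaCenter (inv_mem hn) hy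
        simpa [hA, mul_assoc] using this⟩
    by_cases h8 : 8 ≤ Nat.card A
    · exact normalizer_le_of_big hM hW hAM le_rfl (omegaCenter_elementary X') h8 hnA
    · have hA4 : Nat.card A ≤ 4 := by
        obtain ⟨k, hk⟩ := (elementary_isPGroup (omegaCenter_elementary X')).exists_card_eq
        rw [hk] at h8 ⊢
        have hk2 : k ≤ 2 := by
          by_contra h3
          exact h8 (le_trans (le_of_eq (by norm_num))
            (Nat.pow_le_pow_right two_pos (show 3 ≤ k by omega)))
        exact le_trans (Nat.pow_le_pow_right two_pos hk2) (by norm_num)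
      suffices hfix : ∃ v ∈ A, orderOf v = 2 ∧ n * v * n⁻¹ = v by
        obtain ⟨v, hv, hvo, hnv⟩ := hfix
        exact hCM v (hAM hv) hvo (mem_centralizer_singleton_iff.2 (mul_inv_eq_iff_eq_mul.1 hnv))
      by_contra hno
      push Not at hno
      have hb : orderOf (n * a * n⁻¹) = 2 := by rw [CfsgLib.Invol.orderOf_conj, ha]
      set b := n * a * n⁻¹ with hbdef
      have hbA : b ∈ A := conj_mem_omegaCenter hn haA
      have hab : a ≠ b := fun h => hno a haA ha h.symm
      have hcom : a * b = b * a := elementary_commute (omegaCenter_elementary X') haA hbA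
      have hc : n * b * n⁻¹ = a * b := by
        rcases four_elements hA4 haA hbA ha hb hab (conj_mem_omegaCenter hn hbA) with h | h | h | h
        · exact absurd (conj_eq_one_iff.1 h) (hinvol_ne hb)
        · refine absurd ?_ (hno (a * b) (mul_mem haA hbA) ?_)
          · rw [show n * (a * b) * n⁻¹ = (n * a * n⁻¹) * (n * b * n⁻¹) by group, h, ← hbdef, hcom]
          · refine CfsgLib.Invol.orderOf_eq_two ?_ ?_
            · intro hab1
              exact hab (by rw [eq_inv_of_mul_eq_one_left hab1, CfsgLib.Invol.inv_eq_self hb])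
            · calc a * b * (a * b) = a * (b * a) * b := by group
                _ = (a * a) * (b * b) := by rw [← hcom]; group
                _ = 1 := by rw [CfsgLib.Invol.mul_self_eq_one ha,
                    CfsgLib.Invol.mul_self_eq_one hb, mul_one]
        · exact absurd h (hno b hbA hb)
        · exact h
      have hn3 : Commute (n ^ 3) a := by
        refine mul_inv_eq_iff_eq_mul.1 ?_
        rw [show n ^ 3 * a * (n ^ 3)⁻¹ = n * (n * (n * a * n⁻¹) * n⁻¹) * n⁻¹ by
            simp [pow_succ, mul_assoc], ← hbdef, hc,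
          show n * (a * b) * n⁻¹ = (n * a * n⁻¹) * (n * b * n⁻¹) by group, ← hbdef, hc, hcom,
          ← mul_assoc, CfsgLib.Invol.mul_self_eq_one hb, one_mul]
      have hna := hM.hyp.commute_of_cube hM.prime hM.three_lt
        (elementary_isPGroup (omegaCenter_elementary X')) hnA haA hn3
      exact hab (by rw [hbdef, hna.eq, mul_inv_cancel_right])

end CfsgLib.PPrimeNilp
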