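import Mathlib
import Cfsg.Agent.Lib.PPrimeNilp.Embedded
import Cfsg.Agent.Lib.PPrimeNilp.Count

/-!
A group all of whose `p'`-subgroups are nilpotent, `p > 3`, is solvable (given the odd order theorem).
-/

set_option autoImplicit false
set_option linter.style.haveILetI false

open Subgroup

namespace CfsgLib.PPrimeNilp

universe u

/-- The odd order theorem, as a hypothesis. -/
def OddOrderSolvable : Prop :=
  ∀ (X : Type u) [Group X] [Finite X], Odd (Nat.card X) → Group.IsSolvable X

theorem isSolvable_aux (hFT : OddOrderSolvable.{u}) {p : ℕ} (hp : p.Prime) (hp3 : 3 < p) :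
    ∀ (n : ℕ) (G : Type u) [Group G] [Finite G], Nat.card G = n → Hyp p G → Group.IsSolvable G := by
  intro n
  induction n using Nat.strong_induction_on with
  | _ n ih =>
    intro G _ _ hn hG
    by_contra hns
    have hsolv : ∀ H : Subgroup G, H ≠ ⊤ → Group.IsSolvable H := fun H hH => by
      refine ih (Nat.card H) ?_ H rfl (hG.subgroup H)
      rw [← hn]
      exact lt_of_le_of_ne (card_le_card_group H) fun h => hH (eq_top_of_card_eq H h)
    by_cases hsimp : IsSimpleGroup G
    · have heven : Even (Nat.card G) := by
        by_contra h
        exact hns (hFT G (Nat.not_even_iff_odd.1 h))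
      have hMin : Minimal p G := ⟨hp, hp3, hsimp, heven, hG, hsolv, hns⟩
      obtain ⟨M, hM⟩ := hMin.exists_stronglyEmbedded
      exact false_of_stronglyEmbedded hMin hM
    · -- a proper nontrivial normal subgroup
      haveI : Nontrivial G := by
        by_contra h
        rw [not_nontrivial_iff_subsingleton] at h
        exact hns inferInstance
      obtain ⟨N, hN, hNbot, hNtop⟩ : ∃ N : Subgroup G, N.Normal ∧ N ≠ ⊥ ∧ N ≠ ⊤ := by
        by_contra hno
        push Not at hno
        exact hsimp ⟨fun N hN => or_iff_not_imp_left.2 (hno N hN)⟩
      haveI := hN
      haveI := hsolv N hNtop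
      have hlt : Nat.card (G ⧸ N) < n := by
        rw [← hn, card_eq_card_quotient_mul_card_subgroup N]
        exact lt_mul_of_one_lt_right Nat.card_pos ((one_lt_card_iff_ne_bot N).2 hNbot)
      set f := QuotientGroup.mk' N
      have hQ : Hyp p (G ⧸ N) := by
        intro H hH
        by_cases hK : H.comap f = ⊤
        · -- `H` is the whole quotient: use the Frattini argument
          have hHtop : H = ⊤ := by
            rw [← map_comap_eq_self_of_surjective (QuotientGroup.mk'_surjective N) H, hK,
              map_top_of_surjective f (QuotientGroup.mk'_surjective N)]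
          subst hHtop
          rw [card_top] at hH
          haveI : Fact p.Prime := ⟨hp⟩
          obtain ⟨P⟩ : Nonempty (Sylow p N) := inferInstance
          set PG := (P : Subgroup N).map N.subtype with hPG
          by_cases hPn : normalizer (PG : Set G) = ⊤
          · haveI : PG.Normal := normalizer_eq_top_iff.1 hPn
            have hcop : (Nat.card PG).Coprime PG.index := by
              obtain ⟨k, hk⟩ := (P.isPGroup'.map N.subtype).exists_card_eq
              rw [hPG, hk]
              refine Nat.Coprime.pow_left k (hp.coprime_iff_not_dvd.2 ?_)
              rw [index_map, hp.dvd_mul, not_or]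
              refine ⟨?_, ?_⟩
              · rw [N.ker_subtype, sup_bot_eq]
                exact P.not_dvd_index
              · rw [N.range_subtype, index_eq_card]
                exact hp.coprime_iff_not_dvd.1 hH.symm
            obtain ⟨K, hK'⟩ := exists_right_complement'_of_coprime hcop
            haveI : Group.IsNilpotent K := hG K (by
              rw [← hK'.symm.index_eq_card]
              obtain ⟨k, hk⟩ := (P.isPGroup'.map N.subtype).exists_card_eq
              by_cases hk0 : k = 0
              · have : PG = ⊥ := eq_bot_of_card_eq _ (by rw [hPG, hk, hk0, pow_zero])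
                rw [this, index_bot, card_eq_card_quotient_mul_card_subgroup N]
                refine Nat.Coprime.mul_left hH ?_
                refine (hp.coprime_iff_not_dvd.2 fun hd => ?_).symm
                have := P.ne_bot_of_dvd_card hd
                exact this ((map_eq_bot_iff_of_injective _ N.subtype_injective).1 ‹PG = ⊥›)
              · rw [hPG, hk] at hcop
                exact ((Nat.coprime_pow_left_iff (Nat.pos_of_ne_zero hk0) _ _).1 hcop).symm)
            exfalso
            refine hns ((Group.isSolvable_iff_subgroup_quotient PG).2 ⟨?_, ?_⟩)
            · haveI := hsolv PG fun h => hNtop (top_le_iff.1 (h ▸ map_subtype_le _))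
              infer_instance
            · haveI : Group.IsSolvable K := inferInstance
              refine Group.isSolvable_of_surjective (f := (QuotientGroup.mk' PG).comp K.subtype) fun q => ?_
              obtain ⟨g, rfl⟩ := QuotientGroup.mk'_surjective PG q
              obtain ⟨⟨a, k⟩, hak⟩ := hK'.2 g
              refine ⟨k, ?_⟩
              show (QuotientGroup.mk' PG) (k : G) = QuotientGroup.mk' PG g
              rw [← hak, map_mul]
              rw [(show QuotientGroup.mk' PG (a : G) = 1 from (QuotientGroup.eq_one_iff _).2 a.2),
                one_mul]
          · haveI := hsolv _ hPn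
            have hsup : normalizer (PG : Set G) ⊔ N = ⊤ := P.normalizer_sup_eq_top
            have hq : Hyp p (G ⧸ N) := (hG.subgroup _).of_surjective hp
              (f.comp (normalizer (PG : Set G)).subtype) fun q => by
              obtain ⟨g, rfl⟩ := QuotientGroup.mk'_surjective N q
              obtain ⟨a, ha, b, hb, hab⟩ := mem_sup_of_normal_right.1 (hsup ▸ mem_top g)
              refine ⟨⟨a, ha⟩, ?_⟩
              show f a = f g
              rw [← hab, map_mul, show f b = 1 from (QuotientGroup.eq_one_iff _).2 hb, mul_one]
            exact hq ⊤ (by rwa [card_top])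
        · haveI := hsolv _ hK
          have hq : Hyp p H := (hG.subgroup (H.comap f)).of_surjective hp (f.subgroupComap H)
            fun y => by
              obtain ⟨x, hx⟩ := QuotientGroup.mk'_surjective N y
              exact ⟨⟨x, by rw [mem_comap]; exact hx ▸ y.2⟩, Subtype.ext hx⟩
          haveI := hq ⊤ (by rwa [card_top])
          exact Group.isNilpotent_top.1 (by assumption)
      haveI := ih _ hlt (G ⧸ N) rfl hQ
      exact hns ((Group.isSolvable_iff_subgroup_quotient N).2 ⟨inferInstance, inferInstance⟩)

/-- If every `p'`-subgroup is nilpotent and `p > 3`, the group is solvable. -/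
theorem isSolvable_of_hyp (hFT : OddOrderSolvable.{u}) {G : Type u} [Group G] [Finite G] {p : ℕ}
    (hp : p.Prime) (hp3 : 3 < p) (h : Hyp p G) : Group.IsSolvable G :=
  isSolvable_aux hFT hp hp3 _ G rfl h

end CfsgLib.PPrimeNilp
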